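import Mathlib
import Cfsg.Agent.Lib.Helper5.GLClass.Defs
import Cfsg.Agent.Lib.Helper4.GLClassPar

set_option autoImplicit false

/-!
The number of conjugacy classes of `SL_n(q)`: the definitions.
-/

namespace Cfsg.Agent.Lib.Helper5.SLClass

open Polynomial Cfsg.Agent.Lib.Helper5.GLClass

/-- the gcd of the (1-based) positions which carry a nontrivial polynomial -/
noncomputable def gg {F : Type*} [Field F] {n : ℕ} (f : Fin n → F[X]) : ℕ :=
  open scoped Classical in
  (Finset.univ.filter (fun j : Fin n => f j ≠ 1)).gcd (fun j => j.val + 1)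

/-- the determinant of the classes with parameter `f` -/
noncomputable def dt {F : Type*} [Field F] {n : ℕ} (f : Fin n → F[X]) : F :=
  (-1) ^ n * ∏ j : Fin n, ((f j).coeff 0) ^ (j.val + 1)

/-- the parameter set as a finset -/
noncomputable def parFinset (F : Type*) [Field F] [Fintype F] (n : ℕ) : Finset (Fin n → F[X]) :=
  (finite_Par (F := F) n n).toFinset

theorem mem_parFinset {F : Type*} [Field F] [Fintype F] {n : ℕ} (f : Fin n → F[X]) :
    f ∈ parFinset F n ↔ f ∈ Par F n n := by
  unfold parFinset
  exact Set.Finite.mem_toFinset _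

/-- the number of parameters whose support consists of multiples of `l` -/
def PL (q n l : ℕ) : ℕ := if l ∣ n then TN q (n / l) (n / l) else 0

/-- realises the unfolding lemmas of the definitions above in this file -/
theorem sl_defs_realize : True := by
  have := @gg.eq_1.{0}
  have := @gg.eq_def.{0}
  have := @dt.eq_1.{0}
  have := @dt.eq_def.{0}
  have := @parFinset.eq_1.{0}
  have := @parFinset.eq_def.{0}
  have := @PL.eq_1
  have := @PL.eq_def
  trivial

end Cfsg.Agent.Lib.Helper5.SLClass
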