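import Mathlib
import Cfsg.Agent.Lib.Helper5.SLClass.Defs

set_option autoImplicit false

/-!
The number of conjugacy classes of `PSL_n(q)`: the definitions.
-/

namespace Cfsg.Agent.Lib.Helper5.SLClass

open Polynomial Cfsg.Agent.Lib.Helper5.GLClass

/-- the parameter `f` is invariant under the scaling of the roots by `c` -/
def InvZ {F : Type*} [Field F] {n : ℕ} (c : F) (f : Fin n → F[X]) : Prop :=
  ∀ j, (f j).scaleRoots c = f j

/-- realises the unfolding lemmas of the definition above in this file -/
theorem p_defs_realize : True := by
  have := @InvZ.eq_1.{0}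
  have := @InvZ.eq_def.{0}
  trivial

end Cfsg.Agent.Lib.Helper5.SLClass
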