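import Mathlib

set_option autoImplicit false

/-!
Determinants of multiplication maps on `F[X] ⧸ (p ^ e)`.
-/

namespace Cfsg.Agent.Lib.Helper5.SLClass

open Polynomial Module

universe u

section exact
variable {F : Type*} [Field F] {A B C : Type*} [AddCommGroup A] [Module F A]
  [AddCommGroup B] [Module F B] [AddCommGroup C] [Module F C]
  [FiniteDimensional F A] [FiniteDimensional F B] [FiniteDimensional F C]

/-- multiplicativity of the determinant along a short exact sequence -/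
theorem det_of_exact (i : A →ₗ[F] B) (π : B →ₗ[F] C) (hi : Function.Injective i)
    (hπ : Function.Surjective π) (hex : ∀ b, π b = 0 → ∃ a, i a = b) (hz : ∀ a, π (i a) = 0)
    (α : A →ₗ[F] A) (β : B →ₗ[F] B) (γ : C →ₗ[F] C)
    (h1 : ∀ a, β (i a) = i (α a)) (h2 : ∀ b, π (β b) = γ (π b)) :
    LinearMap.det β = LinearMap.det α * LinearMap.det γ := by
  classical
  set W : Submodule F B := LinearMap.ker π with hW
  have he : W ≤ W.comap β := by
    intro b hb
    rw [Submodule.mem_comap, hW, LinearMap.mem_ker, h2]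
    rw [hW, LinearMap.mem_ker] at hb
    rw [hb, map_zero]
  rw [LinearMap.det_eq_det_mul_det W β he]
  -- the sub
  have hiW : ∀ a, i a ∈ W := fun a => by rw [hW, LinearMap.mem_ker]; exact hz a
  let E1 : A ≃ₗ[F] W := LinearEquiv.ofBijective (i.codRestrict W hiW) (by
    constructor
    · intro a a' h
      apply hi
      exact congrArg Subtype.val h
    · rintro ⟨b, hb⟩
      rw [hW, LinearMap.mem_ker] at hb
      obtain ⟨a, ha⟩ := hex b hb
      exact ⟨a, Subtype.ext ha⟩)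
  have e1 : β.restrict he = E1.conj α := by
    apply LinearMap.ext
    intro w
    obtain ⟨a, rfl⟩ := E1.surjective w
    rw [LinearEquiv.conj_apply_apply, LinearEquiv.symm_apply_apply]
    apply Subtype.ext
    rw [LinearMap.restrict_coe_apply]
    exact h1 a
  -- the quotient
  let E2 : (B ⧸ W) ≃ₗ[F] C := π.quotKerEquivOfSurjective hπ
  have e2 : W.mapQ W β he = E2.symm.conj γ := by
    apply LinearMap.ext
    intro x
    obtain ⟨b, rfl⟩ := Submodule.Quotient.mk_surjective W x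
    rw [LinearEquiv.conj_apply_apply, LinearEquiv.symm_symm, Submodule.mapQ_apply]
    apply E2.injective
    rw [LinearEquiv.apply_symm_apply]
    show π (β b) = γ (π b)
    exact h2 b
  rw [e1, e2, LinearEquiv.conj_apply, LinearEquiv.conj_apply, LinearMap.comp_assoc,
    LinearMap.comp_assoc, LinearMap.det_conj, LinearMap.det_conj]

end exact

section quot
variable {F : Type u} [Field F]

theorem finite_quot (a : F[X]) (ha : a ≠ 0) : Module.Finite F (F[X] ⧸ F[X] ∙ a) :=
  (AdjoinRoot.powerBasis ha).finite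

/-- multiplication by (the class of) `r` on `F[X] ⧸ (a)` -/
noncomputable def mulQ (a r : F[X]) : (F[X] ⧸ F[X] ∙ a) →ₗ[F] (F[X] ⧸ F[X] ∙ a) :=
  LinearMap.mulLeft F (Ideal.Quotient.mk (F[X] ∙ a) r)

theorem mulQ_apply (a r x : F[X]) :
    mulQ a r (Ideal.Quotient.mk (F[X] ∙ a) x) = Ideal.Quotient.mk (F[X] ∙ a) (r * x) := by
  unfold mulQ
  rw [LinearMap.mulLeft_apply, ← map_mul]

theorem det_mulQ_mul (a b r : F[X]) (ha : a ≠ 0) (hb : b ≠ 0) :
    LinearMap.det (mulQ (a * b) r) = LinearMap.det (mulQ a r) * LinearMap.det (mulQ b r) := by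
  haveI := finite_quot a ha
  haveI := finite_quot b hb
  haveI := finite_quot (a * b) (mul_ne_zero ha hb)
  -- the inclusion `x ↦ b x`
  have hle : (F[X] ∙ a) ≤ (F[X] ∙ (a * b)).comap (LinearMap.mulLeft F[X] b) := by
    intro x hx
    rw [Submodule.mem_comap, LinearMap.mulLeft_apply]
    obtain ⟨c, rfl⟩ := Ideal.mem_span_singleton.1 hx
    exact Ideal.mem_span_singleton.2 ⟨c, by ring⟩
  let i0 : (F[X] ⧸ F[X] ∙ a) →ₗ[F[X]] (F[X] ⧸ F[X] ∙ (a * b)) :=
    Submodule.mapQ _ _ (LinearMap.mulLeft F[X] b) hle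
  let i : (F[X] ⧸ F[X] ∙ a) →ₗ[F] (F[X] ⧸ F[X] ∙ (a * b)) := i0.restrictScalars F
  have hi_mk : ∀ x : F[X], i (Ideal.Quotient.mk (F[X] ∙ a) x) =
      Ideal.Quotient.mk (F[X] ∙ (a * b)) (b * x) := fun x => rfl
  have hle2 : (F[X] ∙ (a * b)) ≤ (F[X] ∙ b).comap (LinearMap.id : F[X] →ₗ[F[X]] F[X]) := by
    intro x hx
    rw [Submodule.mem_comap, LinearMap.id_apply]
    obtain ⟨c, rfl⟩ := Ideal.mem_span_singleton.1 hx
    exact Ideal.mem_span_singleton.2 ⟨a * c, by ring⟩
  let π0 : (F[X] ⧸ F[X] ∙ (a * b)) →ₗ[F[X]] (F[X] ⧸ F[X] ∙ b) :=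
    Submodule.mapQ _ _ LinearMap.id hle2
  let π : (F[X] ⧸ F[X] ∙ (a * b)) →ₗ[F] (F[X] ⧸ F[X] ∙ b) := π0.restrictScalars F
  have hπ_mk : ∀ x : F[X], π (Ideal.Quotient.mk (F[X] ∙ (a * b)) x) =
      Ideal.Quotient.mk (F[X] ∙ b) x := fun x => rfl
  apply det_of_exact i π
  · intro x y hxy
    obtain ⟨x, rfl⟩ := Ideal.Quotient.mk_surjective x
    obtain ⟨y, rfl⟩ := Ideal.Quotient.mk_surjective y
    rw [hi_mk, hi_mk, Ideal.Quotient.eq, Ideal.mem_span_singleton] at hxy
    rw [Ideal.Quotient.eq, Ideal.mem_span_singleton]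
    obtain ⟨c, hc⟩ := hxy
    refine ⟨c, ?_⟩
    apply mul_left_cancel₀ hb
    rw [mul_sub, hc]
    ring
  · intro y
    obtain ⟨y, rfl⟩ := Ideal.Quotient.mk_surjective y
    exact ⟨Ideal.Quotient.mk _ y, hπ_mk y⟩
  · intro y hy
    obtain ⟨y, rfl⟩ := Ideal.Quotient.mk_surjective y
    rw [hπ_mk, Ideal.Quotient.eq_zero_iff_mem, Ideal.mem_span_singleton] at hy
    obtain ⟨c, rfl⟩ := hy
    exact ⟨Ideal.Quotient.mk _ c, hi_mk c⟩
  · intro x
    obtain ⟨x, rfl⟩ := Ideal.Quotient.mk_surjective x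
    rw [hi_mk, hπ_mk, Ideal.Quotient.eq_zero_iff_mem, Ideal.mem_span_singleton]
    exact ⟨x, rfl⟩
  · intro x
    obtain ⟨x, rfl⟩ := Ideal.Quotient.mk_surjective x
    rw [hi_mk, mulQ_apply, mulQ_apply, hi_mk]
    congr 1
    ring
  · intro y
    obtain ⟨y, rfl⟩ := Ideal.Quotient.mk_surjective y
    rw [mulQ_apply, hπ_mk, hπ_mk, mulQ_apply]

theorem det_mulQ_one (a r : F[X]) (ha : a = 1) : LinearMap.det (mulQ a r) = 1 := by
  subst ha
  haveI : Subsingleton (F[X] ⧸ F[X] ∙ (1 : F[X])) := by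
    apply Ideal.Quotient.subsingleton_iff.2
    exact Ideal.span_singleton_one
  exact LinearMap.det_eq_one_of_subsingleton _

theorem det_mulQ_pow (p r : F[X]) (hp : p ≠ 0) (e : ℕ) :
    LinearMap.det (mulQ (p ^ e) r) = LinearMap.det (mulQ p r) ^ e := by
  induction e with
  | zero =>
    rw [det_mulQ_one _ _ (pow_zero p), pow_zero]
  | succ e ih =>
    have h := det_mulQ_mul (p ^ e) p r (pow_ne_zero _ hp) hp
    rw [ih, ← pow_succ, ← pow_succ] at h
    exact h

end quot

section finite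
variable {F : Type u} [Field F] [Finite F]

/-- over a finite field every unit is the determinant of a multiplication on `F[X] ⧸ (p)` -/
theorem exists_det_mulQ_eq (p : F[X]) (hp : Irreducible p) (v : F) (hv : v ≠ 0) :
    ∃ r : F[X], LinearMap.det (mulQ p r) = v := by
  haveI : Fact (Irreducible p) := ⟨hp⟩
  haveI : Module.Finite F (AdjoinRoot p) := finite_quot p hp.ne_zero
  haveI : Finite (AdjoinRoot p) := Module.finite_of_finite F
  obtain ⟨x, hx⟩ := FiniteField.norm_surjective F (AdjoinRoot p) v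
  obtain ⟨r, rfl⟩ := AdjoinRoot.mk_surjective x
  refine ⟨r, ?_⟩
  rw [← hx, Algebra.norm_apply]
  rfl

end finite

end Cfsg.Agent.Lib.Helper5.SLClass
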