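import Mathlib
import Cfsg.Agent.Lib.Helper5.SLClass.Norm
import Cfsg.Agent.Lib.Helper5.SLClass.Defs
import Cfsg.Agent.Lib.Helper5.GLClass.TypeMap

set_option autoImplicit false

/-!
The determinants of the centraliser of an element of `GL_n(F)` contain the `d`-th powers, `d` the
gcd of the exponents of its elementary divisors; the determinant of a class in terms of its type.
-/

namespace Cfsg.Agent.Lib.Helper5.SLClass

open Polynomial Module Cfsg.Agent.Lib.Helper5 Cfsg.Agent.Lib.Helper5.GLClass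

universe u v w

theorem exists_bezout {ι : Type*} (s : Finset ι) (e : ι → ℕ) :
    ∃ a : ι → ℤ, ∑ i ∈ s, a i * (e i : ℤ) = ((s.gcd e : ℕ) : ℤ) := by
  classical
  induction s using Finset.induction_on with
  | empty => exact ⟨fun _ => 0, by simp⟩
  | insert j s hj ih =>
    obtain ⟨a, ha⟩ := ih
    rw [Finset.gcd_insert]
    have hb := Int.gcd_eq_gcd_ab (e j : ℤ) ((s.gcd e : ℕ) : ℤ)
    set x := Int.gcdA (e j : ℤ) ((s.gcd e : ℕ) : ℤ)
    set y := Int.gcdB (e j : ℤ) ((s.gcd e : ℕ) : ℤ)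
    refine ⟨fun i => if i = j then x else y * a i, ?_⟩
    rw [Finset.sum_insert hj]
    simp only [if_true]
    have h1 : ∑ i ∈ s, (if i = j then x else y * a i) * (e i : ℤ) =
        y * ∑ i ∈ s, a i * (e i : ℤ) := by
      rw [Finset.mul_sum]
      apply Finset.sum_congr rfl
      intro i hi
      have : i ≠ j := fun h => hj (h ▸ hi)
      rw [if_neg this]
      ring
    rw [h1, ha]
    have h2 : ((GCDMonoid.gcd (e j) (s.gcd e) : ℕ) : ℤ) =
        ((Int.gcd (e j : ℤ) ((s.gcd e : ℕ) : ℤ) : ℕ) : ℤ) := by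
      rw [Int.gcd_natCast_natCast]
      rfl
    rw [h2, hb]
    ring

section piMap
variable {F : Type u} [Field F]

theorem det_piMap {ι : Type v} [Fintype ι] [DecidableEq ι] {Q : ι → Type w}
    [∀ j, AddCommGroup (Q j)] [∀ j, Module F (Q j)] [∀ j, Module.Finite F (Q j)]
    (f : ∀ i, Q i →ₗ[F] Q i) : LinearMap.det (piMap f) = ∏ i, LinearMap.det (f i) := by
  rw [LinearMap.det_eq_sign_charpoly_coeff, charpoly_piMap, Polynomial.coeff_zero_prod,
    Module.finrank_pi_fintype, ← Finset.prod_pow_eq_pow_sum, ← Finset.prod_mul_distrib]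
  apply Finset.prod_congr rfl
  intro i _
  rw [LinearMap.det_eq_sign_charpoly_coeff]

end piMap

section central
variable {F : Type u} [Field F] [Finite F] {V : Type v} [AddCommGroup V] [Module F V]
  [FiniteDimensional F V]

theorem prod_zpow_units {ι : Type*} (s : Finset ι) (u : Fˣ) (k : ι → ℤ) :
    ∏ i ∈ s, u ^ k i = u ^ ∑ i ∈ s, k i := by
  classical
  induction s using Finset.induction_on with
  | empty => simp
  | insert j s hj ih => rw [Finset.prod_insert hj, Finset.sum_insert hj, ih, zpow_add]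

theorem exists_commute_det (φ : V →ₗ[F] V) {ι : Type u} [Fintype ι] (p : ι → F[X])
    (hp : ∀ i, Irreducible (p i)) (e : ι → ℕ) (Ψ : V ≃ₗ[F] (∀ i, F[X] ⧸ F[X] ∙ p i ^ e i))
    (hΨ : ∀ (q : F[X]) (u : V) (i : ι),
      Ψ (aeval φ q u) i = Ideal.Quotient.mk (F[X] ∙ p i ^ e i) q * Ψ u i) (u : Fˣ) :
    ∃ Y : V →ₗ[F] V, (∀ v, Y (φ v) = φ (Y v)) ∧
      LinearMap.det Y = ((u ^ (Finset.univ.gcd e) : Fˣ) : F) := by
  classical
  obtain ⟨a, ha⟩ := exists_bezout Finset.univ e
  have hr : ∀ i, ∃ r : F[X], LinearMap.det (mulQ (p i) r) = ((u ^ a i : Fˣ) : F) := fun i =>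
    exists_det_mulQ_eq (p i) (hp i) _ (Units.ne_zero _)
  choose r hr using hr
  have hne : ∀ i, p i ^ e i ≠ 0 := fun i => pow_ne_zero _ (hp i).ne_zero
  haveI fin : ∀ i, Module.Finite F (F[X] ⧸ F[X] ∙ p i ^ e i) := fun i => finite_quot _ (hne i)
  let P : (∀ i, F[X] ⧸ F[X] ∙ p i ^ e i) →ₗ[F] (∀ i, F[X] ⧸ F[X] ∙ p i ^ e i) :=
    piMap (fun i => mulQ (p i ^ e i) (r i))
  refine ⟨Ψ.symm.conj P, ?_, ?_⟩
  · intro v
    apply Ψ.injective
    rw [LinearEquiv.conj_apply_apply, LinearEquiv.symm_symm, LinearEquiv.apply_symm_apply]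
    funext i
    rw [primary_decomp_X φ Ψ hΨ, LinearEquiv.conj_apply_apply, LinearEquiv.symm_symm,
      LinearEquiv.apply_symm_apply]
    show mulQ (p i ^ e i) (r i) (Ψ (φ v) i) = _ * mulQ (p i ^ e i) (r i) (Ψ v i)
    rw [primary_decomp_X φ Ψ hΨ]
    unfold mulQ
    rw [LinearMap.mulLeft_apply, LinearMap.mulLeft_apply]
    ring
  · rw [LinearEquiv.conj_apply, LinearMap.comp_assoc, LinearMap.det_conj, det_piMap]
    have h1 : ∀ i, LinearMap.det (mulQ (p i ^ e i) (r i)) = (((u ^ a i) ^ e i : Fˣ) : F) := by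
      intro i
      rw [det_mulQ_pow _ _ (hp i).ne_zero, hr, Units.val_pow_eq_pow_val]
    rw [Finset.prod_congr rfl (fun i _ => h1 i), ← Units.coe_prod]
    congr 1
    have h2 : ∀ i, (u ^ a i) ^ e i = u ^ (a i * (e i : ℤ)) := by
      intro i
      rw [zpow_mul u (a i) (e i : ℤ), zpow_natCast]
    rw [Finset.prod_congr rfl (fun i _ => h2 i), prod_zpow_units, ha, zpow_natCast]

end central

end Cfsg.Agent.Lib.Helper5.SLClass
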