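import Mathlib
import Cfsg.Agent.Lib.Helper5.SLClass.Norm
import Cfsg.Agent.Lib.Helper5.GLClass.TypeMap

set_option autoImplicit false

/-!
The dimension of the kernel of multiplication by `P ^ k` on `F[X] ⧸ (p ^ e)`.
-/

namespace Cfsg.Agent.Lib.Helper5.SLClass

open Polynomial Module Cfsg.Agent.Lib.Helper5 Cfsg.Agent.Lib.Helper5.GLClass

universe u

section
variable {F : Type u} [Field F]

/-- the inclusion `x ↦ b x` of `F[X] ⧸ (a)` into `F[X] ⧸ (c)`, `c = a b` -/
noncomputable def incl (a b c : F[X]) (hc : c = a * b) :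
    (F[X] ⧸ F[X] ∙ a) →ₗ[F] (F[X] ⧸ F[X] ∙ c) :=
  (Submodule.mapQ (F[X] ∙ a) (F[X] ∙ c) (LinearMap.mulLeft F[X] b) (by
    intro x hx
    rw [Submodule.mem_comap, LinearMap.mulLeft_apply]
    obtain ⟨d, rfl⟩ := Ideal.mem_span_singleton.1 hx
    exact Ideal.mem_span_singleton.2 ⟨d, by rw [hc]; ring⟩)).restrictScalars F

theorem incl_mk (a b c : F[X]) (hc : c = a * b) (x : F[X]) :
    incl a b c hc (Ideal.Quotient.mk (F[X] ∙ a) x) = Ideal.Quotient.mk (F[X] ∙ c) (b * x) := rfl

theorem incl_injective (a b c : F[X]) (hc : c = a * b) (hb : b ≠ 0) :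
    Function.Injective (incl a b c hc) := by
  intro x y hxy
  obtain ⟨x, rfl⟩ := Ideal.Quotient.mk_surjective x
  obtain ⟨y, rfl⟩ := Ideal.Quotient.mk_surjective y
  rw [incl_mk, incl_mk, Ideal.Quotient.eq, Ideal.mem_span_singleton] at hxy
  rw [Ideal.Quotient.eq, Ideal.mem_span_singleton]
  obtain ⟨d, hd⟩ := hxy
  refine ⟨d, ?_⟩
  apply mul_left_cancel₀ hb
  rw [mul_sub, hd, hc]
  ring

theorem range_incl (a b c : F[X]) (hc : c = a * b) (ha : a ≠ 0) :
    LinearMap.range (incl a b c hc) = LinearMap.ker (mulQ c a) := by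
  ext y
  obtain ⟨y, rfl⟩ := Ideal.Quotient.mk_surjective y
  rw [LinearMap.mem_range, LinearMap.mem_ker, mulQ_apply, Ideal.Quotient.eq_zero_iff_mem,
    Ideal.mem_span_singleton]
  constructor
  · rintro ⟨x, hx⟩
    obtain ⟨x, rfl⟩ := Ideal.Quotient.mk_surjective x
    rw [incl_mk, Ideal.Quotient.eq, Ideal.mem_span_singleton] at hx
    obtain ⟨d, hd⟩ := hx
    refine ⟨x - a * d, ?_⟩
    have : y = b * x - c * d := by rw [← hd]; ring
    rw [this, hc]
    ring
  · rintro ⟨d, hd⟩
    rw [hc, mul_assoc] at hd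
    have h1 := mul_left_cancel₀ ha hd
    exact ⟨Ideal.Quotient.mk _ d, by rw [incl_mk, h1]⟩

theorem finrank_ker_mulQ (a b c : F[X]) (hc : c = a * b) (ha : a ≠ 0) (hb : b ≠ 0) :
    finrank F (LinearMap.ker (mulQ c a)) = a.natDegree := by
  rw [← range_incl a b c hc ha, LinearMap.finrank_range_of_inj (incl_injective a b c hc hb),
    finrank_quot a ha]

theorem finrank_ker_mulQ_pow (p : F[X]) (hp : p ≠ 0) (e k : ℕ) :
    finrank F (LinearMap.ker (mulQ (p ^ e) (p ^ k))) = p.natDegree * min e k := by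
  rcases le_or_gt e k with h | h
  · rw [min_eq_left h]
    have h0 : mulQ (p ^ e) (p ^ k) = 0 := by
      apply LinearMap.ext
      intro y
      obtain ⟨y, rfl⟩ := Ideal.Quotient.mk_surjective y
      rw [mulQ_apply, LinearMap.zero_apply, Ideal.Quotient.eq_zero_iff_mem,
        Ideal.mem_span_singleton]
      exact Dvd.dvd.mul_right (pow_dvd_pow p h) _
    rw [h0, LinearMap.ker_zero, finrank_top, finrank_quot _ (pow_ne_zero _ hp), natDegree_pow,
      mul_comm]
  · rw [min_eq_right h.le]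
    have hc : p ^ e = p ^ k * p ^ (e - k) := by
      rw [← pow_add]
      congr 1
      omega
    rw [finrank_ker_mulQ (p ^ k) (p ^ (e - k)) (p ^ e) hc (pow_ne_zero _ hp) (pow_ne_zero _ hp),
      natDegree_pow, mul_comm]

/-- multiplication by a polynomial prime to the modulus is injective -/
theorem ker_mulQ_of_isCoprime (c r : F[X]) (h : IsCoprime c r) :
    LinearMap.ker (mulQ c r) = ⊥ := by
  rw [LinearMap.ker_eq_bot']
  intro y hy
  obtain ⟨y, rfl⟩ := Ideal.Quotient.mk_surjective y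
  rw [mulQ_apply, Ideal.Quotient.eq_zero_iff_mem, Ideal.mem_span_singleton] at hy
  rw [Ideal.Quotient.eq_zero_iff_mem, Ideal.mem_span_singleton]
  exact h.dvd_of_dvd_mul_left hy

/-- the dimension of the kernel of multiplication by `P ^ k` on a primary block -/
theorem finrank_ker_block (p P : F[X]) (hp : Irreducible p) (hP : Irreducible P) (e k : ℕ) :
    finrank F (LinearMap.ker (mulQ (p ^ e) (P ^ k))) =
      open scoped Classical in if Associated p P then p.natDegree * min e k else 0 := by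
  classical
  by_cases h : Associated p P
  · rw [if_pos h]
    obtain ⟨u, rfl⟩ := h
    have h1 : LinearMap.ker (mulQ (p ^ e) ((p * ↑u) ^ k)) = LinearMap.ker (mulQ (p ^ e) (p ^ k)) := by
      ext y
      obtain ⟨y, rfl⟩ := Ideal.Quotient.mk_surjective y
      rw [LinearMap.mem_ker, LinearMap.mem_ker, mulQ_apply, mulQ_apply,
        Ideal.Quotient.eq_zero_iff_mem, Ideal.Quotient.eq_zero_iff_mem,
        Ideal.mem_span_singleton, Ideal.mem_span_singleton, mul_pow, mul_comm (p ^ k),
        mul_assoc]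
      exact IsUnit.dvd_mul_left ((Units.isUnit u).pow k)
    rw [h1, finrank_ker_mulQ_pow p hp.ne_zero]
  · rw [if_neg h]
    have hcop : IsCoprime (p ^ e) (P ^ k) := by
      apply IsCoprime.pow
      exact (hp.coprime_iff_not_dvd.2 (fun hd => h (hp.associated_of_dvd hP hd)))
    rw [ker_mulQ_of_isCoprime _ _ hcop, finrank_bot]

end

end Cfsg.Agent.Lib.Helper5.SLClass
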