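import Mathlib
import Cfsg.Agent.Lib.Helper5.SLClass.KerBlock

set_option autoImplicit false

/-!
Uniqueness of the type of an element of `GL_n(F)` (the elementary divisors are determined by the
dimensions of the kernels of the `P(g) ^ k`).
-/

namespace Cfsg.Agent.Lib.Helper5.SLClass

open Polynomial Module Cfsg.Agent.Lib.Helper5 Cfsg.Agent.Lib.Helper5.GLClass

universe u v w

section piKer
variable {F : Type u} [Field F]

/-- the kernel of a componentwise map -/
def kerPiEquiv {ι : Type v} {Q : ι → Type w} [∀ j, AddCommGroup (Q j)] [∀ j, Module F (Q j)]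
    (f : ∀ i, Q i →ₗ[F] Q i) :
    LinearMap.ker (piMap f) ≃ₗ[F] (∀ i, LinearMap.ker (f i)) where
  toFun y i := ⟨y.1 i, by
    have h := y.2
    rw [LinearMap.mem_ker] at h ⊢
    exact congrFun h i⟩
  invFun z := ⟨fun i => (z i).1, by
    rw [LinearMap.mem_ker]
    funext i
    exact (z i).2⟩
  map_add' _ _ := rfl
  map_smul' _ _ := rfl
  left_inv _ := rfl
  right_inv _ := rfl

theorem finrank_ker_piMap {ι : Type v} [Fintype ι] {Q : ι → Type w} [∀ j, AddCommGroup (Q j)]
    [∀ j, Module F (Q j)] [∀ j, Module.Finite F (Q j)] (f : ∀ i, Q i →ₗ[F] Q i) :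
    finrank F (LinearMap.ker (piMap f)) = ∑ i, finrank F (LinearMap.ker (f i)) := by
  rw [LinearEquiv.finrank_eq (kerPiEquiv f), Module.finrank_pi_fintype]

end piKer

section kernel
variable {F : Type u} [Field F] {V : Type v} [AddCommGroup V] [Module F V] [FiniteDimensional F V]

theorem finrank_ker_aeval (φ : V →ₗ[F] V) {ι : Type u} [Fintype ι] (p : ι → F[X])
    (hp : ∀ i, Irreducible (p i)) (e : ι → ℕ) (Ψ : V ≃ₗ[F] (∀ i, F[X] ⧸ F[X] ∙ p i ^ e i))
    (hΨ : ∀ (q : F[X]) (u : V) (i : ι),
      Ψ (aeval φ q u) i = Ideal.Quotient.mk (F[X] ∙ p i ^ e i) q * Ψ u i)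
    (P : F[X]) (hP : Irreducible P) (k : ℕ) :
    finrank F (LinearMap.ker (aeval φ (P ^ k))) =
      open scoped Classical in
      ∑ i, if Associated (p i) P then (p i).natDegree * min (e i) k else 0 := by
  classical
  have hne : ∀ i, p i ^ e i ≠ 0 := fun i => pow_ne_zero _ (hp i).ne_zero
  haveI fin : ∀ i, Module.Finite F (F[X] ⧸ F[X] ∙ p i ^ e i) := fun i => finite_quot _ (hne i)
  have h1 : LinearMap.ker (aeval φ (P ^ k)) =
      (LinearMap.ker (piMap (fun i => mulQ (p i ^ e i) (P ^ k)))).comap Ψ.toLinearMap := by
    ext v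
    rw [Submodule.mem_comap, LinearMap.mem_ker, LinearMap.mem_ker]
    constructor
    · intro hv
      funext i
      show mulQ (p i ^ e i) (P ^ k) (Ψ v i) = 0
      unfold mulQ
      rw [LinearMap.mulLeft_apply, ← hΨ, hv, map_zero]
      rfl
    · intro hv
      apply Ψ.injective
      rw [map_zero]
      funext i
      rw [hΨ]
      have := congrFun hv i
      exact this
  rw [h1, Submodule.comap_equiv_eq_map_symm, LinearEquiv.finrank_map_eq, finrank_ker_piMap]
  apply Finset.sum_congr rfl
  intro i _
  rw [finrank_ker_block (p i) P (hp i) hP]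

end kernel

section count
variable {F : Type u} [Field F]

/-- the sum of `min e k` over the exponents attached to `P` -/
noncomputable def sMin (m : Multiset (F[X] × ℕ)) (P : F[X]) (k : ℕ) : ℕ :=
  open scoped Classical in
  ((m.filter (fun x => x.1 = P)).map (fun x => min x.2 k)).sum

theorem count_add_sMin (m : Multiset (F[X] × ℕ)) (P : F[X]) (k : ℕ) (hk : 1 ≤ k) :
    open scoped Classical in
    Multiset.count (P, k) m + sMin m P (k - 1) + sMin m P (k + 1) = 2 * sMin m P k := by
  classical
  unfold sMin
  induction m using Multiset.induction_on with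
  | empty => simp
  | cons a m ih =>
    by_cases ha : a.1 = P
    · rw [Multiset.filter_cons_of_pos (p := fun x : F[X] × ℕ => x.1 = P) _ ha]
      simp only [Multiset.map_cons, Multiset.sum_cons]
      by_cases hak : a.2 = k
      · have : a = (P, k) := Prod.ext ha hak
        rw [this, Multiset.count_cons_self]
        simp only
        have e1 : min k (k - 1) = k - 1 := min_eq_right (Nat.sub_le _ _)
        have e2 : min k (k + 1) = k := min_eq_left (Nat.le_succ _)
        rw [e1, e2, min_self]
        omega
      · have : (P, k) ≠ a := by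
          intro h
          apply hak
          rw [← h]
        rw [Multiset.count_cons_of_ne this]
        rcases Nat.lt_or_gt_of_ne hak with h | h
        · have e1 : min a.2 (k - 1) = a.2 := min_eq_left (by omega)
          have e2 : min a.2 (k + 1) = a.2 := min_eq_left (by omega)
          have e3 : min a.2 k = a.2 := min_eq_left (by omega)
          rw [e1, e2, e3]
          omega
        · have e1 : min a.2 (k - 1) = k - 1 := min_eq_right (by omega)
          have e2 : min a.2 (k + 1) = k + 1 := min_eq_right (by omega)
          have e3 : min a.2 k = k := min_eq_right (by omega)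
          rw [e1, e2, e3]
          omega
    · rw [Multiset.filter_cons_of_neg (p := fun x : F[X] × ℕ => x.1 = P) _ ha]
      have : (P, k) ≠ a := by
        intro h
        apply ha
        rw [← h]
      rw [Multiset.count_cons_of_ne this]
      exact ih

theorem assoc_iff_nz_eq {p P : F[X]} (hp : p ≠ 0) (hP : P.Monic) :
    Associated p P ↔ nz p = P := by
  constructor
  · intro h
    exact eq_of_monic_of_associated (nz_monic hp) hP ((nz_associated hp).trans h)
  · intro h
    rw [← h]
    exact (nz_associated hp).symm

theorem sum_map_filter_map {α β : Type*} (s : Finset α) (g : α → β) (q : β → Prop)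
    [DecidablePred q] (h : β → ℕ) :
    (((s.val.map g).filter q).map h).sum = ∑ i ∈ s, if q (g i) then h (g i) else 0 := by
  rw [Multiset.filter_map, Multiset.map_map, ← Finset.sum_filter]
  rfl

theorem sum_pairs_eq {ι : Type u} [Fintype ι] (p : ι → F[X]) (hp : ∀ i, Irreducible (p i))
    (e : ι → ℕ) (P : F[X]) (hP : P.Monic) (k : ℕ) :
    (open scoped Classical in
      ∑ i, if Associated (p i) P then (p i).natDegree * min (e i) k else 0) =
      P.natDegree * sMin (pairs p e) P k := by
  classical
  unfold sMin pairs
  rw [sum_map_filter_map, Finset.mul_sum]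
  rw [← Finset.sum_subtype (Finset.univ.filter (fun i => e i ≠ 0)) (by simp)
    (fun i => P.natDegree * if nz (p i) = P then min (e i) k else 0), Finset.sum_filter]
  apply Finset.sum_congr rfl
  intro i _
  by_cases hi : e i = 0
  · simp [hi]
  · rw [if_pos hi]
    by_cases h : Associated (p i) P
    · have h2 := (assoc_iff_nz_eq (hp i).ne_zero hP).1 h
      rw [if_pos h, if_pos h2, ← h2, natDegree_nz _ (hp i).ne_zero]
    · have h2 : ¬ nz (p i) = P := fun h' => h ((assoc_iff_nz_eq (hp i).ne_zero hP).2 h')
      rw [if_neg h, if_neg h2, mul_zero]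

end count

end Cfsg.Agent.Lib.Helper5.SLClass
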