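import Mathlib
import Cfsg.Agent.Lib.Helper5.SLClass.Unique

set_option autoImplicit false

/-!
Uniqueness of the type of an element of `GL_n(F)`, and the types of scalar multiples.
-/

namespace Cfsg.Agent.Lib.Helper5.SLClass

open Polynomial Module Cfsg.Agent.Lib.Helper5 Cfsg.Agent.Lib.Helper5.GLClass

universe u v

section lin
variable {F : Type u} [Field F] {V : Type v} [AddCommGroup V] [Module F V] [FiniteDimensional F V]

theorem finrank_ker_aeval_conj (E : V ≃ₗ[F] V) (φ : V →ₗ[F] V) (Q : F[X]) :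
    finrank F (LinearMap.ker (aeval (E.conj φ) Q)) = finrank F (LinearMap.ker (aeval φ Q)) := by
  have h1 : aeval (E.conj φ) Q = E.conj (aeval φ Q) :=
    aeval_algHom_apply (E.conjAlgEquiv F) φ Q
  rw [h1]
  have h2 : LinearMap.ker (E.conj (aeval φ Q)) = (LinearMap.ker (aeval φ Q)).map E.toLinearMap := by
    ext v
    rw [LinearMap.mem_ker, LinearEquiv.conj_apply_apply, Submodule.mem_map]
    constructor
    · intro hv
      refine ⟨E.symm v, ?_, E.apply_symm_apply v⟩
      rw [LinearMap.mem_ker]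
      exact E.injective (by rw [hv, map_zero])
    · rintro ⟨w, hw, rfl⟩
      rw [LinearMap.mem_ker] at hw
      show E (aeval φ Q (E.symm (E w))) = 0
      rw [E.symm_apply_apply, hw, map_zero]
  rw [h2, LinearEquiv.finrank_map_eq]

theorem comp_C_mul_X_eq (P : F[X]) (c : F) (hc : c ≠ 0) :
    P.comp (C c * X) = C (c ^ P.natDegree) * P.scaleRoots c⁻¹ := by
  ext i
  rw [comp_C_mul_X_coeff, coeff_C_mul, coeff_scaleRoots]
  by_cases hi : i ≤ P.natDegree
  · have : c ^ P.natDegree = c ^ i * c ^ (P.natDegree - i) := by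
      rw [← pow_add]
      congr 1
      omega
    rw [this, inv_pow]
    field_simp
  · rw [coeff_eq_zero_of_natDegree_lt (by omega)]
    simp

theorem ker_aeval_smul (φ : V →ₗ[F] V) (c : F) (hc : c ≠ 0) (P : F[X]) (k : ℕ) :
    LinearMap.ker (aeval (c • φ) (P ^ k)) = LinearMap.ker (aeval φ ((P.scaleRoots c⁻¹) ^ k)) := by
  have h1 : aeval (c • φ) (P ^ k) = aeval φ ((P ^ k).comp (C c * X)) := by
    rw [aeval_comp]
    congr 1
    rw [map_mul, aeval_C, aeval_X]
    rfl
  rw [h1, pow_comp, comp_C_mul_X_eq P c hc, mul_pow, ← C_pow, map_mul, aeval_C]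
  ext v
  rw [LinearMap.mem_ker, LinearMap.mem_ker, Module.End.mul_apply]
  have hne : (c ^ P.natDegree) ^ k ≠ 0 := pow_ne_zero _ (pow_ne_zero _ hc)
  constructor
  · intro h
    have h2 : (c ^ P.natDegree) ^ k • (aeval φ (P.scaleRoots c⁻¹ ^ k)) v = 0 := h
    exact (smul_eq_zero.1 h2).resolve_left hne
  · intro h
    rw [h, map_zero]

end lin

section gl
variable {F : Type u} [Field F] {n : ℕ}

/-- the dimension of the kernel of `P(g) ^ k` -/
noncomputable def kap (g : Matrix.GeneralLinearGroup (Fin n) F) (P : F[X]) (k : ℕ) : ℕ :=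
  finrank F (LinearMap.ker (aeval (Matrix.toLin' g.val) (P ^ k)))

theorem isType_kap {g : Matrix.GeneralLinearGroup (Fin n) F} {m : Multiset (F[X] × ℕ)}
    (h : IsType g m) (P : F[X]) (hP : Irreducible P) (hPm : P.Monic) (k : ℕ) :
    kap g P k = P.natDegree * sMin m P k := by
  obtain ⟨ι, hι, p, hp, e, Ψ, hΨ, rfl⟩ := h
  unfold kap
  rw [finrank_ker_aeval (Matrix.toLin' g.val) p hp e Ψ hΨ P hP k, sum_pairs_eq p hp e P hPm k]

theorem isType_count {g : Matrix.GeneralLinearGroup (Fin n) F} {m : Multiset (F[X] × ℕ)}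
    (h : IsType g m) (P : F[X]) (hP : Irreducible P) (hPm : P.Monic) (k : ℕ) (hk : 1 ≤ k) :
    open scoped Classical in
    Multiset.count (P, k) m * P.natDegree + kap g P (k - 1) + kap g P (k + 1) =
      2 * kap g P k := by
  classical
  rw [isType_kap h P hP hPm, isType_kap h P hP hPm, isType_kap h P hP hPm]
  have := count_add_sMin m P k hk
  calc _ = P.natDegree * (Multiset.count (P, k) m + sMin m P (k - 1) + sMin m P (k + 1)) := by
        ring
    _ = _ := by rw [this]; ring

/-- two elements with the same kernel dimensions have the same type -/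
theorem isType_eq_of_kap {g g' : Matrix.GeneralLinearGroup (Fin n) F}
    {m m' : Multiset (F[X] × ℕ)} (h : IsType g m) (h' : IsType g' m')
    (hk : ∀ (P : F[X]) (k : ℕ), Irreducible P → P.Monic → kap g P k = kap g' P k) : m = m' := by
  classical
  ext x
  obtain ⟨P, k⟩ := x
  by_cases hx : Irreducible P ∧ P.Monic ∧ 1 ≤ k
  · obtain ⟨hP, hPm, hk1⟩ := hx
    have h1 := isType_count h P hP hPm k hk1
    have h2 := isType_count h' P hP hPm k hk1
    rw [hk P _ hP hPm, hk P _ hP hPm, hk P _ hP hPm] at h1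
    have hd : 0 < P.natDegree := hP.natDegree_pos
    have h3 : Multiset.count (P, k) m * P.natDegree = Multiset.count (P, k) m' * P.natDegree := by
      omega
    exact Nat.eq_of_mul_eq_mul_right hd h3
  · have e1 : (P, k) ∉ m := by
      intro hmem
      have := h.facts.1 _ hmem
      exact hx ⟨this.1, this.2.1, this.2.2.1⟩
    have e2 : (P, k) ∉ m' := by
      intro hmem
      have := h'.facts.1 _ hmem
      exact hx ⟨this.1, this.2.1, this.2.2.1⟩
    rw [Multiset.count_eq_zero_of_notMem e1, Multiset.count_eq_zero_of_notMem e2]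

theorem isType_unique {g : Matrix.GeneralLinearGroup (Fin n) F} {m m' : Multiset (F[X] × ℕ)}
    (h : IsType g m) (h' : IsType g m') : m = m' :=
  isType_eq_of_kap h h' (fun _ _ _ _ => rfl)

theorem kap_conj (c g : Matrix.GeneralLinearGroup (Fin n) F) (P : F[X]) (k : ℕ) :
    kap (c * g * c⁻¹) P k = kap g P k := by
  unfold kap
  have h1 : c⁻¹.val * c.val = 1 := by
    rw [← Units.val_mul, inv_mul_cancel, Units.val_one]
  have h2 : c.val * c⁻¹.val = 1 := by
    rw [← Units.val_mul, mul_inv_cancel, Units.val_one]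
  let E : (Fin n → F) ≃ₗ[F] (Fin n → F) := Matrix.toLin'OfInv h1 h2
  have hE : Matrix.toLin' (c * g * c⁻¹).val = E.conj (Matrix.toLin' g.val) := by
    apply LinearMap.ext
    intro v
    rw [LinearEquiv.conj_apply_apply, Units.val_mul, Units.val_mul, Matrix.toLin'_mul,
      Matrix.toLin'_mul]
    rfl
  rw [hE, finrank_ker_aeval_conj]

theorem kap_of_isConj {g g' : Matrix.GeneralLinearGroup (Fin n) F} (h : IsConj g g') (P : F[X])
    (k : ℕ) : kap g' P k = kap g P k := by
  obtain ⟨c, hc⟩ := isConj_iff.1 h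
  rw [← hc, kap_conj]

theorem kap_smul {g g' : Matrix.GeneralLinearGroup (Fin n) F} (c : F) (hc : c ≠ 0)
    (hg : g'.val = c • g.val) (P : F[X]) (k : ℕ) :
    kap g' P k = kap g (P.scaleRoots c⁻¹) k := by
  unfold kap
  rw [hg, map_smul, ker_aeval_smul _ c hc]

end gl

end Cfsg.Agent.Lib.Helper5.SLClass
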