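import Mathlib
import Cfsg.Agent.Lib.Helper5.SLClass.Central

set_option autoImplicit false

/-!
The refined type map of `GL_n(F)`: determinant of a class and determinants of centralisers.
-/

namespace Cfsg.Agent.Lib.Helper5.SLClass

open Polynomial Module Cfsg.Agent.Lib.Helper5 Cfsg.Agent.Lib.Helper5.GLClass

universe u v

section charpoly
variable {F : Type u} [Field F] {V : Type v} [AddCommGroup V] [Module F V] [FiniteDimensional F V]

theorem charpoly_eq_prod (φ : V →ₗ[F] V) {ι : Type u} [Fintype ι] (p : ι → F[X])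
    (hp : ∀ i, Irreducible (p i)) (e : ι → ℕ) (Ψ : V ≃ₗ[F] (∀ i, F[X] ⧸ F[X] ∙ p i ^ e i))
    (hΨ : ∀ (q : F[X]) (u : V) (i : ι),
      Ψ (aeval φ q u) i = Ideal.Quotient.mk (F[X] ∙ p i ^ e i) q * Ψ u i) :
    φ.charpoly = ∏ i, nz (p i ^ e i) := by
  classical
  have hne : ∀ i, p i ^ e i ≠ 0 := fun i => pow_ne_zero _ (hp i).ne_zero
  have fin : ∀ i, Module.Finite F (F[X] ⧸ F[X] ∙ p i ^ e i) := fun i =>
    (AdjoinRoot.powerBasis (hne i)).finite
  have hconj : Ψ.conj φ =
      piMap (fun i => LinearMap.mulLeft F (Ideal.Quotient.mk (F[X] ∙ p i ^ e i) X)) := by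
    apply LinearMap.ext
    intro y
    rw [LinearEquiv.conj_apply_apply]
    funext i
    rw [primary_decomp_X φ Ψ hΨ, LinearEquiv.apply_symm_apply]
    rfl
  rw [← LinearEquiv.charpoly_conj Ψ, hconj, charpoly_piMap]
  apply Finset.prod_congr rfl
  intro i _
  exact charpoly_mulX _ (hne i)

theorem nz_pow (g : F[X]) (k : ℕ) : nz (g ^ k) = nz g ^ k := by
  unfold nz
  rw [leadingCoeff_pow, mul_pow, ← C_pow, inv_pow]

end charpoly

section seq
variable {F : Type u} [Field F]

/-- the product of the levels of `seqOf` with their multiplicities -/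
theorem prod_seqOf (n : ℕ) (m : Multiset (F[X] × ℕ)) (hm : ∀ x ∈ m, 1 ≤ x.2 ∧ x.2 ≤ n) :
    ∏ j : Fin n, (seqOf n m j) ^ (j.val + 1) = (m.map (fun x => x.1 ^ x.2)).prod := by
  classical
  unfold seqOf
  induction m using Multiset.induction_on with
  | empty => simp
  | cons a m ih =>
    have hm' : ∀ x ∈ m, 1 ≤ x.2 ∧ x.2 ≤ n := fun x hx => hm x (Multiset.mem_cons_of_mem hx)
    have ha := hm a (Multiset.mem_cons_self a m)
    rw [Multiset.map_cons, Multiset.prod_cons, ← ih hm']
    have hstep : ∀ j : Fin n,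
        (((a ::ₘ m).filter (fun x => x.2 = j.val + 1)).map Prod.fst).prod ^ (j.val + 1) =
          (if a.2 = j.val + 1 then a.1 ^ a.2 else 1) *
            ((m.filter (fun x => x.2 = j.val + 1)).map Prod.fst).prod ^ (j.val + 1) := by
      intro j
      by_cases h : a.2 = j.val + 1
      · rw [Multiset.filter_cons_of_pos (p := fun x : F[X] × ℕ => x.2 = j.val + 1) _ h,
          Multiset.map_cons, Multiset.prod_cons, mul_pow,
          if_pos h, h]
      · rw [Multiset.filter_cons_of_neg (p := fun x : F[X] × ℕ => x.2 = j.val + 1) _ h, if_neg h,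
          one_mul]
    rw [Finset.prod_congr rfl (fun j _ => hstep j), Finset.prod_mul_distrib]
    congr 1
    have hj : a.2 - 1 < n := by omega
    rw [Finset.prod_eq_single (⟨a.2 - 1, hj⟩ : Fin n)]
    · rw [if_pos]
      show a.2 = a.2 - 1 + 1
      omega
    · intro j _ hne
      rw [if_neg]
      intro h
      apply hne
      apply Fin.ext
      show j.val = a.2 - 1
      omega
    · intro h
      exact absurd (Finset.mem_univ _) h

end seq

section gl
variable {F : Type u} [Field F] {n : ℕ}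

theorem isType_det_eq {g : Matrix.GeneralLinearGroup (Fin n) F} {m : Multiset (F[X] × ℕ)}
    (h : IsType g m) : g.val.det = dt (seqOf n m) := by
  classical
  have hgood := h.facts.1
  obtain ⟨ι, hι, p, hp, e, Ψ, hΨ, rfl⟩ := h
  have h1 := charpoly_eq_prod (Matrix.toLin' g.val) p hp e Ψ hΨ
  rw [Matrix.charpoly_toLin'] at h1
  have h2 : ∏ j : Fin n, (seqOf n (pairs p e) j) ^ (j.val + 1) = g.val.charpoly := by
    rw [prod_seqOf n _ (fun x hx => (hgood x hx).2.2), h1]
    unfold pairs
    rw [Multiset.map_map]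
    show ∏ i : {i // e i ≠ 0}, nz (p i.1) ^ e i.1 = _
    rw [← Finset.prod_subtype (Finset.univ.filter (fun i => e i ≠ 0)) (by simp)
      (fun i => nz (p i) ^ e i), Finset.prod_filter]
    apply Finset.prod_congr rfl
    intro i _
    by_cases hi : e i = 0
    · simp [hi, nz_one]
    · rw [if_pos hi, nz_pow]
  rw [Matrix.det_eq_sign_charpoly_coeff, ← h2, Polynomial.coeff_zero_prod, Fintype.card_fin]
  unfold dt
  congr 1
  apply Finset.prod_congr rfl
  intro j _
  rw [Polynomial.coeff_zero_eq_eval_zero, Polynomial.eval_pow, ← Polynomial.coeff_zero_eq_eval_zero]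

end gl

section central
variable {F : Type u} [Field F] [Finite F] {n : ℕ}

theorem isType_exists_commute {g : Matrix.GeneralLinearGroup (Fin n) F}
    {m : Multiset (F[X] × ℕ)} (h : IsType g m) (u : Fˣ) :
    ∃ y : Matrix.GeneralLinearGroup (Fin n) F, Commute y g ∧
      Matrix.GeneralLinearGroup.det y = u ^ gg (seqOf n m) := by
  classical
  obtain ⟨ι, hι, p, hp, e, Ψ, hΨ, rfl⟩ := h
  -- the gcd of the exponents divides `gg`
  have hd : Finset.univ.gcd e ∣ gg (seqOf n (pairs p e)) := by
    unfold gg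
    apply Finset.dvd_gcd
    intro j hj
    rw [Finset.mem_filter] at hj
    have hne : (pairs p e).filter (fun x => x.2 = j.val + 1) ≠ 0 := by
      intro h0
      apply hj.2
      unfold seqOf
      convert Multiset.prod_zero
      rw [Multiset.map_eq_zero]
      convert h0
    obtain ⟨x, hx⟩ := Multiset.exists_mem_of_ne_zero hne
    rw [Multiset.mem_filter] at hx
    obtain ⟨i, hi, rfl⟩ := (mem_pairs p e x).1 hx.1
    have : e i = j.val + 1 := hx.2
    rw [← this]
    exact Finset.gcd_dvd (Finset.mem_univ i)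
  obtain ⟨k, hk⟩ := hd
  obtain ⟨Y, hY, hdet⟩ := exists_commute_det (Matrix.toLin' g.val) p hp e Ψ hΨ (u ^ k)
  have hdet' : (LinearMap.toMatrix' Y).det = ((u ^ gg (seqOf n (pairs p e)) : Fˣ) : F) := by
    rw [LinearMap.det_toMatrix', hdet, hk, ← pow_mul, mul_comm]
  refine ⟨Matrix.GeneralLinearGroup.mkOfDetNeZero (LinearMap.toMatrix' Y)
    (by rw [hdet']; exact Units.ne_zero _), ?_, ?_⟩
  · apply Units.ext
    show LinearMap.toMatrix' Y * g.val = g.val * LinearMap.toMatrix' Y
    have h1 : Y ∘ₗ Matrix.toLin' g.val = Matrix.toLin' g.val ∘ₗ Y := by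
      apply LinearMap.ext
      intro v
      exact hY v
    have h2 := congrArg LinearMap.toMatrix' h1
    rwa [LinearMap.toMatrix'_comp, LinearMap.toMatrix'_comp, LinearMap.toMatrix'_toLin'] at h2
  · apply Units.ext
    rw [Matrix.GeneralLinearGroup.val_det_apply]
    exact hdet'

theorem exists_type_map_sl [Fintype F] (n : ℕ) :
    ∃ Φ : Matrix.GeneralLinearGroup (Fin n) F → (Fin n → F[X]),
      (∀ g, Φ g ∈ Par F n n) ∧ (∀ g h, Φ g = Φ h → IsConj g h) ∧
      (∀ g, g.val.det = dt (Φ g)) ∧
      (∀ (g : Matrix.GeneralLinearGroup (Fin n) F) (u : Fˣ),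
        ∃ y : Matrix.GeneralLinearGroup (Fin n) F, Commute y g ∧
          Matrix.GeneralLinearGroup.det y = u ^ gg (Φ g)) := by
  classical
  choose m hm using fun g : Matrix.GeneralLinearGroup (Fin n) F => exists_isType g
  refine ⟨fun g => seqOf n (m g), ?_, ?_, ?_, ?_⟩
  · intro g
    obtain ⟨h1, h2, h3⟩ := (hm g).facts
    exact seqOf_mem_Par n (m g) h1 h2 h3
  · intro g h hgh
    have e : m g = m h := seqOf_injective n (hm g).facts.1 (hm h).facts.1 hgh
    have hh := hm h
    rw [← e] at hh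
    exact (hm g).isConj hh
  · intro g
    exact isType_det_eq (hm g)
  · intro g u
    exact isType_exists_commute (hm g) u

end central

end Cfsg.Agent.Lib.Helper5.SLClass
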