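import Mathlib
import Cfsg.Agent.Lib.Helper5.SLClass.Defs

set_option autoImplicit false

/-!
The parameters supported on the multiples of `l`.
-/

namespace Cfsg.Agent.Lib.Helper5.SLClass

open Polynomial Cfsg.Agent.Lib.Helper5.GLClass

theorem natDegree_eq_zero_of_eq_one {F : Type*} [Field F] {f : F[X]} (h : f = 1) :
    f.natDegree = 0 := by
  rw [h, natDegree_one]

/-- a sum over `Fin (l * k)` supported on the positions `l (i + 1) - 1` -/
theorem sum_scale (l k : ℕ) (hl : 1 ≤ l) (g : Fin (l * k) → ℕ)
    (hg : ∀ j : Fin (l * k), ¬ l ∣ j.val + 1 → g j = 0)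
    (ε : Fin k → Fin (l * k)) (hε : ∀ i, (ε i).val = l * (i.val + 1) - 1) :
    ∑ j, g j = ∑ i, g (ε i) := by
  classical
  have hinj : Function.Injective ε := by
    intro i i' h
    have h1 := congrArg Fin.val h
    rw [hε, hε] at h1
    have h2 : l * (i.val + 1) = l * (i'.val + 1) := by
      have a1 : 1 ≤ l * (i.val + 1) := Nat.mul_pos hl (Nat.succ_pos _)
      have a2 : 1 ≤ l * (i'.val + 1) := Nat.mul_pos hl (Nat.succ_pos _)
      omega
    have h3 := Nat.eq_of_mul_eq_mul_left hl h2
    apply Fin.ext
    omega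
  rw [← Finset.sum_image (s := Finset.univ) (g := ε) (f := g) (fun a _ b _ h => hinj h)]
  symm
  apply Finset.sum_subset (Finset.subset_univ _)
  intro j _ hj
  apply hg
  rintro ⟨c, hc⟩
  apply hj
  rw [Finset.mem_image]
  have hc1 : 1 ≤ c := by
    rcases Nat.eq_zero_or_pos c with h | h
    · rw [h] at hc
      omega
    · exact h
  have hck : c ≤ k := by
    have h1 : j.val + 1 ≤ l * k := j.isLt
    rw [hc] at h1
    exact Nat.le_of_mul_le_mul_left h1 hl
  refine ⟨⟨c - 1, by omega⟩, Finset.mem_univ _, ?_⟩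
  apply Fin.ext
  rw [hε]
  show l * (c - 1 + 1) - 1 = j.val
  rw [Nat.sub_add_cancel hc1, ← hc]
  omega

theorem card_supp_le {F : Type*} [Field F] [Fintype F] (n l : ℕ) (hl : 1 ≤ l) :
    Nat.card {f : Fin n → F[X] // f ∈ Par F n n ∧ ∀ j : Fin n, f j ≠ 1 → l ∣ j.val + 1} ≤
      PL (Fintype.card F) n l := by
  classical
  unfold PL
  by_cases hln : l ∣ n
  · rw [if_pos hln]
    obtain ⟨k, rfl⟩ := hln
    have hk : l * k / l = k := Nat.mul_div_cancel_left k hl
    rw [hk, ← card_Par (F := F) k k]
    have hpos : ∀ i : Fin k, l * (i.val + 1) - 1 < l * k := by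
      intro i
      have h1 : l * (i.val + 1) ≤ l * k := Nat.mul_le_mul_left _ i.isLt
      have h2 : 1 ≤ l * (i.val + 1) := Nat.mul_pos hl (Nat.succ_pos _)
      omega
    let ε : Fin k → Fin (l * k) := fun i => ⟨l * (i.val + 1) - 1, hpos i⟩
    have hε : ∀ i, (ε i).val = l * (i.val + 1) - 1 := fun i => rfl
    haveI : Finite (Par F k k) := (finite_Par (F := F) k k).to_subtype
    have hmem : ∀ f : {f : Fin (l * k) → F[X] // f ∈ Par F (l * k) (l * k) ∧
        ∀ j : Fin (l * k), f j ≠ 1 → l ∣ j.val + 1}, (fun i => f.1 (ε i)) ∈ Par F k k := by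
      intro f
      refine ⟨fun i => f.2.1.1 (ε i), ?_⟩
      have h1 := f.2.1.2
      rw [sum_scale l k hl (fun j => (j.val + 1) * (f.1 j).natDegree) ?_ ε hε] at h1
      · have h2 : ∑ i : Fin k, ((ε i).val + 1) * (f.1 (ε i)).natDegree =
            l * ∑ i : Fin k, (i.val + 1) * (f.1 (ε i)).natDegree := by
          rw [Finset.mul_sum]
          apply Finset.sum_congr rfl
          intro i _
          rw [hε]
          have h2 : 1 ≤ l * (i.val + 1) := Nat.mul_pos hl (Nat.succ_pos _)
          rw [Nat.sub_add_cancel h2]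
          ring
        rw [h2] at h1
        exact Nat.eq_of_mul_eq_mul_left hl h1
      · intro j hj
        have : f.1 j = 1 := by
          by_contra hne
          exact hj (f.2.2 j hne)
        show (j.val + 1) * (f.1 j).natDegree = 0
        rw [natDegree_eq_zero_of_eq_one this, mul_zero]
    apply Nat.card_le_card_of_injective (fun f => (⟨fun i => f.1 (ε i), hmem f⟩ : Par F k k))
    intro f f' hff
    apply Subtype.ext
    funext j
    have hff' : ∀ i, f.1 (ε i) = f'.1 (ε i) := fun i => congrFun (congrArg Subtype.val hff) i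
    by_cases hj : l ∣ j.val + 1
    · obtain ⟨c, hc⟩ := hj
      have hc1 : 1 ≤ c := by
        rcases Nat.eq_zero_or_pos c with h | h
        · rw [h] at hc
          omega
        · exact h
      have hck : c ≤ k := by
        have h1 : j.val + 1 ≤ l * k := j.isLt
        rw [hc] at h1
        exact Nat.le_of_mul_le_mul_left h1 hl
      have hj' : j = ε ⟨c - 1, by omega⟩ := by
        apply Fin.ext
        rw [hε]
        show j.val = l * (c - 1 + 1) - 1
        rw [Nat.sub_add_cancel hc1, ← hc]
        omega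
      rw [hj']
      exact hff' _
    · have h1 : f.1 j = 1 := by
        by_contra hne
        exact hj (f.2.2 j hne)
      have h2 : f'.1 j = 1 := by
        by_contra hne
        exact hj (f'.2.2 j hne)
      rw [h1, h2]
  · rw [if_neg hln]
    haveI : IsEmpty {f : Fin n → F[X] // f ∈ Par F n n ∧
        ∀ j : Fin n, f j ≠ 1 → l ∣ j.val + 1} := by
      constructor
      rintro ⟨f, hf, hsupp⟩
      apply hln
      rw [← hf.2]
      apply Finset.dvd_sum
      intro j _
      by_cases h : f j = 1
      · rw [natDegree_eq_zero_of_eq_one h, mul_zero]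
        exact dvd_zero _
      · exact Dvd.dvd.mul_right (hsupp j h) _
    rw [Nat.card_of_isEmpty]

end Cfsg.Agent.Lib.Helper5.SLClass
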