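import Mathlib
import Cfsg.Agent.Lib.Helper5.SLClass.Supp

set_option autoImplicit false

/-!
The double count of `∑ gcd (gg f) (q - 1) ^ 2` over pairs of units.
-/

namespace Cfsg.Agent.Lib.Helper5.SLClass

open Polynomial Cfsg.Agent.Lib.Helper5.GLClass

theorem gg_dvd {F : Type*} [Field F] {n : ℕ} (f : Fin n → F[X]) (j : Fin n) (hj : f j ≠ 1) :
    gg f ∣ j.val + 1 := by
  classical
  unfold gg
  exact Finset.gcd_dvd (Finset.mem_filter.2 ⟨Finset.mem_univ j, hj⟩)

section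
variable {F : Type*} [Field F] [Fintype F] [DecidableEq F]

theorem gcd_eq_card_filter (d : ℕ) :
    Nat.gcd d (Fintype.card F - 1) = (Finset.univ.filter (fun y : Fˣ => y ^ d = 1)).card := by
  have h1 := IsCyclic.card_powMonoidHom_ker (G := Fˣ) d
  rw [Nat.card_eq_fintype_card (α := Fˣ), Fintype.card_units] at h1
  rw [Nat.gcd_comm, ← h1, ← Fintype.card_subtype, ← Nat.card_eq_fintype_card]
  apply Nat.card_congr
  apply Equiv.subtypeEquivRight
  intro y
  rw [MonoidHom.mem_ker, powMonoidHom_apply]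

theorem supp_dvd_of_pow_eq_one {n : ℕ} (f : Fin n → F[X]) (y : Fˣ) (hy : y ^ gg f = 1)
    (j : Fin n) (hj : f j ≠ 1) : orderOf y ∣ j.val + 1 := by
  exact dvd_trans (orderOf_dvd_of_pow_eq_one hy) (gg_dvd f j hj)

theorem sum_sq_le (n : ℕ) (hn : 1 ≤ n) :
    ∑ f ∈ parFinset F n, Nat.gcd (gg f) (Fintype.card F - 1) ^ 2 ≤
      ∑ yz : Fˣ × Fˣ, PL (Fintype.card F) n (Nat.lcm (orderOf yz.1) (orderOf yz.2)) := by
  classical
  have h1 : ∀ f : Fin n → F[X], Nat.gcd (gg f) (Fintype.card F - 1) ^ 2 =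
      ∑ yz : Fˣ × Fˣ, if yz.1 ^ gg f = 1 ∧ yz.2 ^ gg f = 1 then 1 else 0 := by
    intro f
    rw [gcd_eq_card_filter, pow_two, ← Finset.card_product, Finset.card_eq_sum_ones,
      ← Finset.sum_filter]
    apply Finset.sum_congr _ (fun _ _ => rfl)
    ext yz
    simp only [Finset.mem_product, Finset.mem_filter, Finset.mem_univ, true_and]
  rw [Finset.sum_congr rfl (fun f _ => h1 f), Finset.sum_comm]
  apply Finset.sum_le_sum
  intro yz _
  rw [← Finset.sum_filter, ← Finset.card_eq_sum_ones]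
  set l := Nat.lcm (orderOf yz.1) (orderOf yz.2) with hl
  have hl1 : 1 ≤ l := Nat.lcm_pos (orderOf_pos _) (orderOf_pos _)
  refine le_trans ?_ (card_supp_le (F := F) n l hl1)
  haveI : Finite {f : Fin n → F[X] // f ∈ Par F n n ∧ ∀ j : Fin n, f j ≠ 1 → l ∣ j.val + 1} := by
    haveI : Finite (Par F n n) := (finite_Par (F := F) n n).to_subtype
    exact Finite.of_injective
      (fun f : {f : Fin n → F[X] // f ∈ Par F n n ∧ ∀ j : Fin n, f j ≠ 1 → l ∣ j.val + 1} =>
        (⟨f.1, f.2.1⟩ : Par F n n))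
      (fun f f' h => by
        have h2 := congrArg Subtype.val h
        exact Subtype.ext h2)
  rw [← Nat.card_eq_finsetCard]
  apply Nat.card_le_card_of_injective
    (fun f : {f // f ∈ (parFinset F n).filter
        (fun f => yz.1 ^ gg f = 1 ∧ yz.2 ^ gg f = 1)} =>
      (⟨f.1, by
        have h2 := f.2
        rw [Finset.mem_filter, mem_parFinset] at h2
        refine ⟨h2.1, fun j hj => ?_⟩
        exact Nat.lcm_dvd (supp_dvd_of_pow_eq_one f.1 yz.1 h2.2.1 j hj)
          (supp_dvd_of_pow_eq_one f.1 yz.2 h2.2.2 j hj)⟩ :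
        {f : Fin n → F[X] // f ∈ Par F n n ∧ ∀ j : Fin n, f j ≠ 1 → l ∣ j.val + 1}))
  intro f f' h
  have h2 := congrArg Subtype.val h
  exact Subtype.ext h2

end

end Cfsg.Agent.Lib.Helper5.SLClass
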