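import Mathlib
import Cfsg.Agent.Lib.Helper5.SLClass.TypeSL
import Cfsg.Agent.Lib.Helper5.SLClass.SumSq
import Cfsg.Agent.Lib.Helper2.SLClass_C3
import Cfsg.Agent.Lib.Helper2.SLClass_C4a
import Cfsg.Agent.Lib.Helper2.SLClass_C4c
import Cfsg.Agent.Lib.Helper2.SLClass_C6

set_option autoImplicit false

/-!
The bounds for the number of conjugacy classes of `SL_n(q)`.
-/

namespace Cfsg.Agent.Lib.Helper5.SLClass
open Polynomial Cfsg.Agent.Lib.Helper5.GLClass

theorem sl_card_le {F : Type*} [Field F] [Fintype F] [DecidableEq F] (n : ℕ) (hn : 1 ≤ n) :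
    (Fintype.card F - 1) * Nat.card (ConjClasses (Matrix.SpecialLinearGroup (Fin n) F)) ≤
      ∑ yz : Fˣ × Fˣ, PL (Fintype.card F) n (Nat.lcm (orderOf yz.1) (orderOf yz.2)) := by
  classical
  obtain ⟨Φ, hPar, hconj, hdet, hcent⟩ := exists_type_map_sl (F := F) n
  have hK := card_conjClasses_le_sum (S := Matrix.SpecialLinearGroup (Fin n) F)
    (G := Matrix.GeneralLinearGroup (Fin n) F) (T := Fˣ)
    Matrix.SpecialLinearGroup.toGL Matrix.SpecialLinearGroup.toGL_injective
    Matrix.GeneralLinearGroup.det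
    (by
      intro g hg
      have h1 : g.val.det = 1 := by
        have := congrArg Units.val hg
        simpa using this
      exact ⟨⟨g.val, h1⟩, by ext; rfl⟩)
    Φ hconj gg hcent ((parFinset F n).filter (fun f => dt f = 1))
    (by
      intro s
      rw [Finset.mem_filter, mem_parFinset]
      refine ⟨hPar _, ?_⟩
      rw [← hdet]
      exact s.2)
  rw [Fintype.card_units] at hK
  calc (Fintype.card F - 1) * Nat.card (ConjClasses (Matrix.SpecialLinearGroup (Fin n) F))
      ≤ (Fintype.card F - 1) * ∑ f ∈ (parFinset F n).filter (fun f => dt f = 1),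
          Nat.gcd (gg f) (Fintype.card F - 1) := Nat.mul_le_mul_left _ hK
    _ ≤ ∑ f ∈ parFinset F n, Nat.gcd (gg f) (Fintype.card F - 1) ^ 2 := by
        convert card_mul_sum_le (F := F) n
    _ ≤ _ := sum_sq_le n hn

theorem sl_conjClasses_bounds {F : Type*} [Field F] [Fintype F] (n : ℕ) (hn : 2 ≤ n) :
    Fintype.card F ^ (n - 1) < Nat.card (ConjClasses (Matrix.SpecialLinearGroup (Fin n) F)) ∧ 2 * Nat.card (ConjClasses (Matrix.SpecialLinearGroup (Fin n) F)) ≤ 5 * Fintype.card F ^ (n - 1) ∧
      (3 ≤ n → Nat.card (ConjClasses (Matrix.SpecialLinearGroup (Fin n) F)) ≤ Fintype.card F ^ (n - 1) + 3 * Fintype.card F ^ (n - 2)) := by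
  classical
  have hq : 2 ≤ Fintype.card F := Fintype.one_lt_card
  have hq1 : 0 < Fintype.card F - 1 := by omega
  have hmain := sl_card_le (F := F) n (by omega)
  have h3 : 3 ≤ n → Nat.card (ConjClasses (Matrix.SpecialLinearGroup (Fin n) F)) ≤
      Fintype.card F ^ (n - 1) + 3 * Fintype.card F ^ (n - 2) := by
    intro h3
    have := hmain.trans (pairs_sum_le (F := F) n h3)
    exact Nat.le_of_mul_le_mul_left this hq1
  refine ⟨lt_card_conjClasses_sl n hn, ?_, h3⟩
  rcases Nat.lt_or_ge n 3 with h | h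
  · have h2 : n = 2 := by omega
    subst h2
    have h5 := pairs_sum_le_two (F := F)
    have h6 : (Fintype.card F - 1) *
        (2 * Nat.card (ConjClasses (Matrix.SpecialLinearGroup (Fin 2) F))) ≤
        (Fintype.card F - 1) * (5 * Fintype.card F ^ (2 - 1)) := by
      calc _ = 2 * ((Fintype.card F - 1) *
            Nat.card (ConjClasses (Matrix.SpecialLinearGroup (Fin 2) F))) := by ring
        _ ≤ 2 * _ := Nat.mul_le_mul_left _ hmain
        _ ≤ 5 * ((Fintype.card F - 1) * Fintype.card F) := h5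
        _ = _ := by ring
    exact Nat.le_of_mul_le_mul_left h6 hq1
  · have h4 := h3 h
    have h7 : Fintype.card F ^ (n - 1) = Fintype.card F * Fintype.card F ^ (n - 2) := by
      rw [← pow_succ']
      congr 1
      omega
    have h8 : 6 * Fintype.card F ^ (n - 2) ≤ 3 * Fintype.card F ^ (n - 1) := by
      rw [h7]
      nlinarith [Nat.zero_le (Fintype.card F ^ (n - 2))]
    omega

end Cfsg.Agent.Lib.Helper5.SLClass
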