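import Mathlib
import Cfsg.Agent.Lib.Helper5.SLClass.UniqueGL

set_option autoImplicit false

/-!
The type of an element of `GL_n(F)` which is conjugate to a scalar multiple of itself is invariant
under the corresponding scaling of the roots.
-/

namespace Cfsg.Agent.Lib.Helper5.SLClass

open Polynomial Module Cfsg.Agent.Lib.Helper5 Cfsg.Agent.Lib.Helper5.GLClass

universe u

section poly
variable {F : Type u} [Field F]

theorem scaleRoots_scaleRoots_inv (P : F[X]) (c : F) (hc : c ≠ 0) :
    (P.scaleRoots c).scaleRoots c⁻¹ = P := by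
  rw [← scaleRoots_mul, mul_inv_cancel₀ hc, scaleRoots_one]

theorem scaleRoots_inv_scaleRoots (P : F[X]) (c : F) (hc : c ≠ 0) :
    (P.scaleRoots c⁻¹).scaleRoots c = P := by
  rw [← scaleRoots_mul, inv_mul_cancel₀ hc, scaleRoots_one]

theorem irreducible_scaleRoots {P : F[X]} (hP : Irreducible P) (c : F) (hc : c ≠ 0) :
    Irreducible (P.scaleRoots c) := by
  have hdeg : 0 < (P.scaleRoots c).natDegree := by
    rw [natDegree_scaleRoots]
    exact hP.natDegree_pos
  constructor
  · intro hu
    have := natDegree_eq_zero_of_isUnit hu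
    omega
  · intro a b hab
    have h1 : P = a.scaleRoots c⁻¹ * b.scaleRoots c⁻¹ := by
      rw [← mul_scaleRoots_of_noZeroDivisors, ← hab, scaleRoots_scaleRoots_inv P c hc]
    have hne : P.scaleRoots c ≠ 0 := scaleRoots_ne_zero hP.ne_zero c
    have ha0 : a ≠ 0 := fun h => hne (by rw [hab, h, zero_mul])
    have hb0 : b ≠ 0 := fun h => hne (by rw [hab, h, mul_zero])
    rcases hP.isUnit_or_isUnit h1 with h | h
    · left
      have := natDegree_eq_zero_of_isUnit h
      rw [natDegree_scaleRoots] at this
      rw [eq_C_of_natDegree_eq_zero this]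
      apply isUnit_C.2
      apply IsUnit.mk0
      intro h0
      apply ha0
      rw [eq_C_of_natDegree_eq_zero this, h0, C_0]
    · right
      have := natDegree_eq_zero_of_isUnit h
      rw [natDegree_scaleRoots] at this
      rw [eq_C_of_natDegree_eq_zero this]
      apply isUnit_C.2
      apply IsUnit.mk0
      intro h0
      apply hb0
      rw [eq_C_of_natDegree_eq_zero this, h0, C_0]

theorem prod_map_scaleRoots (s : Multiset F[X]) (c : F) :
    (s.map (fun P => P.scaleRoots c)).prod = s.prod.scaleRoots c := by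
  induction s using Multiset.induction_on with
  | empty => simp
  | cons a s ih =>
    rw [Multiset.map_cons, Multiset.prod_cons, Multiset.prod_cons, ih,
      mul_scaleRoots_of_noZeroDivisors]

end poly

section gl
variable {F : Type u} [Field F] {n : ℕ}

/-- the scaling of a type -/
noncomputable def scaleType (c : F) (x : F[X] × ℕ) : F[X] × ℕ := (x.1.scaleRoots c, x.2)

theorem seqOf_map_scaleType (m : Multiset (F[X] × ℕ)) (c : F) (j : Fin n) :
    seqOf n (m.map (scaleType c)) j = (seqOf n m j).scaleRoots c := by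
  classical
  unfold seqOf
  rw [Multiset.filter_map, Multiset.map_map, ← prod_map_scaleRoots, Multiset.map_map]
  rfl

theorem isType_map_scaleType {g g' : Matrix.GeneralLinearGroup (Fin n) F}
    {m : Multiset (F[X] × ℕ)} (h : IsType g m) (c : F) (hc : c ≠ 0)
    (hg' : g'.val = c • g.val) (hconj : IsConj g g') : m.map (scaleType c⁻¹) = m := by
  classical
  have hc' : c⁻¹ ≠ 0 := inv_ne_zero hc
  -- the kernel dimensions
  have hk : ∀ (P : F[X]) (k : ℕ), kap g P k = kap g (P.scaleRoots c⁻¹) k := by
    intro P k
    rw [← kap_of_isConj hconj, kap_smul c hc hg']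
  have hgood := h.facts.1
  -- counts
  have hcount : ∀ x : F[X] × ℕ, Multiset.count x m = Multiset.count (scaleType c⁻¹ x) m := by
    rintro ⟨P, k⟩
    by_cases hx : Irreducible P ∧ P.Monic ∧ 1 ≤ k
    · obtain ⟨hP, hPm, hk1⟩ := hx
      have hP' : Irreducible (P.scaleRoots c⁻¹) := irreducible_scaleRoots hP _ hc'
      have hPm' : (P.scaleRoots c⁻¹).Monic := (monic_scaleRoots_iff _).2 hPm
      have h1 := isType_count h P hP hPm k hk1
      have h2 := isType_count h _ hP' hPm' k hk1
      rw [← hk, ← hk, ← hk, natDegree_scaleRoots] at h2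
      have hd : 0 < P.natDegree := hP.natDegree_pos
      have h3 : Multiset.count (P, k) m * P.natDegree =
          Multiset.count (P.scaleRoots c⁻¹, k) m * P.natDegree := by
        omega
      exact Nat.eq_of_mul_eq_mul_right hd h3
    · have e1 : (P, k) ∉ m := by
        intro hmem
        have := hgood _ hmem
        exact hx ⟨this.1, this.2.1, this.2.2.1⟩
      have e2 : scaleType c⁻¹ (P, k) ∉ m := by
        intro hmem
        have := hgood _ hmem
        apply hx
        refine ⟨?_, ?_, this.2.2.1⟩
        · have h4 := irreducible_scaleRoots this.1 c hc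
          rwa [show (scaleType c⁻¹ (P, k)).1 = P.scaleRoots c⁻¹ from rfl,
            scaleRoots_inv_scaleRoots P c hc] at h4
        · exact (monic_scaleRoots_iff _).1 this.2.1
      rw [Multiset.count_eq_zero_of_notMem e1, Multiset.count_eq_zero_of_notMem e2]
  have hinj : Function.Injective (scaleType (c⁻¹ : F)) := by
    rintro ⟨P, k⟩ ⟨Q, l⟩ hPQ
    have h1 : P.scaleRoots c⁻¹ = Q.scaleRoots c⁻¹ := congrArg Prod.fst hPQ
    have h2 : k = l := congrArg Prod.snd hPQ
    have h3 := congrArg (fun R => R.scaleRoots c) h1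
    simp only [scaleRoots_inv_scaleRoots _ c hc] at h3
    rw [h3, h2]
  ext y
  have hy : y = scaleType c⁻¹ (y.1.scaleRoots c, y.2) := by
    unfold scaleType
    rw [scaleRoots_scaleRoots_inv _ c hc]
  rw [hy, Multiset.count_map_eq_count' _ _ hinj, hcount]

theorem isType_scale_invariant {g g' : Matrix.GeneralLinearGroup (Fin n) F}
    {m : Multiset (F[X] × ℕ)} (h : IsType g m) (c : F) (hc : c ≠ 0)
    (hg' : g'.val = c • g.val) (hconj : IsConj g g') (j : Fin n) :
    (seqOf n m j).scaleRoots c⁻¹ = seqOf n m j := by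
  rw [← seqOf_map_scaleType, isType_map_scaleType h c hc hg' hconj]

end gl

end Cfsg.Agent.Lib.Helper5.SLClass
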