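import Mathlib
import Cfsg.Agent.Lib.Helper5.SLClass.TypeSL
import Cfsg.Agent.Lib.Helper5.SLClass.ScaleInv
import Cfsg.Agent.Lib.Helper5.SLClass.PDefs

set_option autoImplicit false

/-!
The refined type map of `GL_n(F)`, with the invariance of the types of the elements conjugate to a
scalar multiple of themselves.
-/

namespace Cfsg.Agent.Lib.Helper5.SLClass

open Polynomial Module Cfsg.Agent.Lib.Helper5 Cfsg.Agent.Lib.Helper5.GLClass

theorem exists_type_map_psl {F : Type*} [Field F] [Fintype F] (n : ℕ) :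
    ∃ Φ : Matrix.GeneralLinearGroup (Fin n) F → (Fin n → F[X]),
      (∀ g, Φ g ∈ Par F n n) ∧ (∀ g h, Φ g = Φ h → IsConj g h) ∧
      (∀ g, g.val.det = dt (Φ g)) ∧
      (∀ (g : Matrix.GeneralLinearGroup (Fin n) F) (u : Fˣ),
        ∃ y : Matrix.GeneralLinearGroup (Fin n) F, Commute y g ∧
          Matrix.GeneralLinearGroup.det y = u ^ gg (Φ g)) ∧
      (∀ (g g' : Matrix.GeneralLinearGroup (Fin n) F) (c : F), c ≠ 0 → g'.val = c • g.val →
        IsConj g g' → InvZ c (Φ g)) := by
  classical
  choose m hm using fun g : Matrix.GeneralLinearGroup (Fin n) F => exists_isType g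
  refine ⟨fun g => seqOf n (m g), ?_, ?_, ?_, ?_, ?_⟩
  · intro g
    obtain ⟨h1, h2, h3⟩ := (hm g).facts
    exact seqOf_mem_Par n (m g) h1 h2 h3
  · intro g h hgh
    have e : m g = m h := seqOf_injective n (hm g).facts.1 (hm h).facts.1 hgh
    have hh := hm h
    rw [← e] at hh
    exact (hm g).isConj hh
  · intro g
    exact isType_det_eq (hm g)
  · intro g u
    exact isType_exists_commute (hm g) u
  · intro g g' c hc hg' hconj j
    have h1 := isType_scale_invariant (hm g) c hc hg' hconj j
    have h2 := congrArg (fun P => P.scaleRoots c) h1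
    simp only [scaleRoots_inv_scaleRoots _ c hc] at h2
    exact h2.symm

end Cfsg.Agent.Lib.Helper5.SLClass
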