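import Mathlib
import Cfsg.Agent.Lib.Helper5.SLClass.TypePSL
import Cfsg.Agent.Lib.Helper2.SLClass_PC3

set_option autoImplicit false

/-!
The classes of `SL_n(F)` fixed by a central element.
-/

namespace Cfsg.Agent.Lib.Helper5.SLClass

open Polynomial Cfsg.Agent.Lib.Helper5.GLClass

open scoped Classical in
theorem fix_le_sum {F : Type*} [Field F] [Fintype F] (n : ℕ)
    (z : Matrix.SpecialLinearGroup (Fin n) F) (c : Fˣ)
    (hz : z.val = (c : F) • (1 : Matrix (Fin n) (Fin n) F)) :
    Nat.card {C : ConjClasses (Matrix.SpecialLinearGroup (Fin n) F) //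
        ∃ x, ConjClasses.mk x = C ∧ IsConj x (z * x)} ≤
      ∑ f ∈ (parFinset F n).filter (fun f => InvZ (c : F) f ∧ dt f = 1),
        Nat.gcd (gg f) (Fintype.card F - 1) := by
  classical
  obtain ⟨Φ, hPar, hconj, hdet, hcent, hinv⟩ := exists_type_map_psl (F := F) n
  have hK := card_conjClasses_subset_le_sum (S := Matrix.SpecialLinearGroup (Fin n) F)
    (G := Matrix.GeneralLinearGroup (Fin n) F) (T := Fˣ)
    Matrix.SpecialLinearGroup.toGL Matrix.SpecialLinearGroup.toGL_injective
    Matrix.GeneralLinearGroup.det
    (by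
      intro g hg
      have h1 : g.val.det = 1 := by
        have := congrArg Units.val hg
        simpa using this
      exact ⟨⟨g.val, h1⟩, by ext; rfl⟩)
    Φ hconj gg hcent
    (fun C => ∃ x, ConjClasses.mk x = C ∧ IsConj x (z * x))
    ((parFinset F n).filter (fun f => InvZ (c : F) f ∧ dt f = 1))
    (by
      intro s hs
      obtain ⟨x, hx, hxz⟩ := hs
      rw [Finset.mem_filter, mem_parFinset]
      refine ⟨hPar _, ?_, ?_⟩
      · -- `s` is conjugate to `z * s`
        have h1 : IsConj x s := ConjClasses.mk_eq_mk_iff_isConj.1 hx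
        have hzc : ∀ y : Matrix.SpecialLinearGroup (Fin n) F, y * z = z * y := by
          intro y
          apply Subtype.ext
          rw [Matrix.SpecialLinearGroup.coe_mul, Matrix.SpecialLinearGroup.coe_mul, hz]
          simp
        have h2 : IsConj (z * x) (z * s) := by
          obtain ⟨g, hg⟩ := isConj_iff.1 h1
          rw [isConj_iff]
          refine ⟨g, ?_⟩
          rw [← hg, ← mul_assoc g z x, hzc g, mul_assoc, mul_assoc, mul_assoc]
        have h3 : IsConj s (z * s) := (h1.symm.trans hxz).trans h2
        have h4 : IsConj (Matrix.SpecialLinearGroup.toGL s)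
            (Matrix.SpecialLinearGroup.toGL (z * s)) := by
          obtain ⟨g, hg⟩ := isConj_iff.1 h3
          rw [isConj_iff]
          refine ⟨Matrix.SpecialLinearGroup.toGL g, ?_⟩
          rw [← map_mul, ← map_inv, ← map_mul, hg]
        refine hinv _ _ (c : F) (Units.ne_zero c) ?_ h4
        show (z * s).val = (c : F) • s.val
        rw [Matrix.SpecialLinearGroup.coe_mul, hz]
        simp
      · rw [← hdet]
        exact s.2)
  rw [Fintype.card_units] at hK
  convert hK

end Cfsg.Agent.Lib.Helper5.SLClass
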