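import Mathlib
import Cfsg.Agent.Lib.Helper5.SLClass.Supp
import Cfsg.Agent.Lib.Helper5.SLClass.PDefs
import Cfsg.Agent.Lib.Lead.GLClassNum

set_option autoImplicit false

/-!
The invariant parameters supported on the multiples of `l`.
-/

namespace Cfsg.Agent.Lib.Helper5.SLClass

open Polynomial Cfsg.Agent.Lib.Helper5.GLClass

section poly
variable {F : Type*} [Field F]

theorem inv_coeff {P : F[X]} (c : Fˣ) (hinv : P.scaleRoots (c : F) = P) (h0 : P.coeff 0 ≠ 0) :
    orderOf c ∣ P.natDegree ∧ ∀ i, ¬ orderOf c ∣ i → P.coeff i = 0 := by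
  have hcoef : ∀ i, P.coeff i * (c : F) ^ (P.natDegree - i) = P.coeff i := fun i => by
    rw [← coeff_scaleRoots, hinv]
  have hpow : ∀ i, P.coeff i ≠ 0 → orderOf c ∣ P.natDegree - i := by
    intro i hi
    have h1 : (c : F) ^ (P.natDegree - i) = 1 := by
      have h2 := hcoef i
      have h3 : P.coeff i * ((c : F) ^ (P.natDegree - i) - 1) = 0 := by
        rw [mul_sub, h2, mul_one, sub_self]
      rcases mul_eq_zero.1 h3 with h | h
      · exact absurd h hi
      · exact sub_eq_zero.1 h
    apply orderOf_dvd_of_pow_eq_one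
    apply Units.ext
    rw [Units.val_pow_eq_pow_val, h1, Units.val_one]
  have hd : orderOf c ∣ P.natDegree := by
    have := hpow 0 h0
    rwa [Nat.sub_zero] at this
  refine ⟨hd, ?_⟩
  intro i hi
  by_contra hne
  have hle : i ≤ P.natDegree := le_natDegree_of_ne_zero hne
  have h1 := hpow i hne
  apply hi
  have h2 : P.natDegree = (P.natDegree - i) + i := by omega
  rw [h2] at hd
  exact (Nat.dvd_add_right h1).1 hd

theorem contract_facts {P : F[X]} (r : ℕ) (hr : 1 ≤ r) (hP : P.Monic) (h0 : P.coeff 0 ≠ 0)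
    (hd : r ∣ P.natDegree) :
    (contract r P).Monic ∧ (contract r P).coeff 0 ≠ 0 ∧
      r * (contract r P).natDegree = P.natDegree := by
  have hr0 : r ≠ 0 := by omega
  obtain ⟨d', hd'⟩ := hd
  have hc1 : (contract r P).coeff d' = 1 := by
    rw [coeff_contract hr0, mul_comm, ← hd']
    exact hP.coeff_natDegree
  have hle : (contract r P).natDegree ≤ d' := by
    rw [natDegree_le_iff_coeff_eq_zero]
    intro N hN
    rw [coeff_contract hr0]
    apply coeff_eq_zero_of_natDegree_lt
    rw [hd']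
    calc r * d' < r * N := Nat.mul_lt_mul_of_pos_left hN (by omega)
      _ = N * r := mul_comm _ _
  have hge : d' ≤ (contract r P).natDegree := by
    apply le_natDegree_of_ne_zero
    rw [hc1]
    exact one_ne_zero
  have hdeg : (contract r P).natDegree = d' := le_antisymm hle hge
  refine ⟨?_, ?_, ?_⟩
  · exact monic_of_natDegree_le_of_coeff_eq_one d' hle hc1
  · rw [coeff_contract hr0, zero_mul]
    exact h0
  · rw [hdeg, hd']

theorem eq_of_contract_eq {P Q : F[X]} (r : ℕ) (hr : 1 ≤ r)
    (hP : ∀ i, ¬ r ∣ i → P.coeff i = 0) (hQ : ∀ i, ¬ r ∣ i → Q.coeff i = 0)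
    (h : contract r P = contract r Q) : P = Q := by
  have hr0 : r ≠ 0 := by omega
  ext i
  by_cases hi : r ∣ i
  · obtain ⟨j, rfl⟩ := hi
    have := congrArg (fun R => R.coeff j) h
    simp only [coeff_contract hr0] at this
    rwa [mul_comm] at this
  · rw [hP i hi, hQ i hi]

end poly

theorem TN_stable (q n : ℕ) : ∀ k, n ≤ k → TN q k n = TN q n n := by
  intro k hk
  induction k, hk using Nat.le_induction with
  | base => rfl
  | succ k hk ih =>
    rw [TN_succ]
    have h1 : n / (k + 1) = 0 := Nat.div_eq_of_lt (by omega)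
    rw [h1]
    simp only [zero_add, Finset.range_one, Finset.sum_singleton, mul_zero, Nat.sub_zero]
    rw [cN_zero, one_mul, ih]

/-- the position `l (i + 1) - 1` -/
def epsL (l k : ℕ) (hl : 1 ≤ l) (i : Fin k) : Fin (l * k) :=
  ⟨l * (i.val + 1) - 1, by
    have h1 : l * (i.val + 1) ≤ l * k := Nat.mul_le_mul_left _ i.isLt
    have h2 : 1 ≤ l * (i.val + 1) := Nat.mul_pos hl (Nat.succ_pos _)
    omega⟩

theorem epsL_val (l k : ℕ) (hl : 1 ≤ l) (i : Fin k) :
    (epsL l k hl i).val = l * (i.val + 1) - 1 := rfl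

theorem exists_epsL_eq (l k : ℕ) (hl : 1 ≤ l) (j : Fin (l * k)) (hj : l ∣ j.val + 1) :
    ∃ i, j = epsL l k hl i := by
  obtain ⟨d, hd⟩ := hj
  have hd1 : 1 ≤ d := by
    rcases Nat.eq_zero_or_pos d with h | h
    · rw [h] at hd
      omega
    · exact h
  have hdk : d ≤ k := by
    have h1 : j.val + 1 ≤ l * k := j.isLt
    rw [hd] at h1
    exact Nat.le_of_mul_le_mul_left h1 hl
  refine ⟨⟨d - 1, by omega⟩, ?_⟩
  apply Fin.ext
  rw [epsL_val]
  show j.val = l * (d - 1 + 1) - 1
  rw [Nat.sub_add_cancel hd1, ← hd]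
  omega

section main
variable {F : Type*} [Field F] [Fintype F]

/-- the invariant parameters supported on the multiples of `l` -/
def SuppInvSet (n l : ℕ) (c : F) : Set (Fin n → F[X]) :=
  {f | f ∈ Par F n n ∧ InvZ c f ∧ ∀ j : Fin n, f j ≠ 1 → l ∣ j.val + 1}

theorem suppInv_facts {n l r : ℕ} (c : Fˣ) (hrdef : r = orderOf c) (f : Fin n → F[X])
    (hf : f ∈ SuppInvSet n l (c : F)) (j : Fin n) :
    (contract r (f j)).Monic ∧ (contract r (f j)).coeff 0 ≠ 0 ∧
      r * (contract r (f j)).natDegree = (f j).natDegree ∧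
      ∀ i, ¬ r ∣ i → (f j).coeff i = 0 := by
  have hr : 1 ≤ r := by rw [hrdef]; exact orderOf_pos c
  obtain ⟨h1, h2⟩ := inv_coeff c (hf.2.1 j) (hf.1.1 j).2
  rw [← hrdef] at h1 h2
  obtain ⟨a1, a2, a3⟩ := contract_facts r hr (hf.1.1 j).1 (hf.1.1 j).2 h1
  exact ⟨a1, a2, a3, h2⟩

theorem suppInv_key {l k r : ℕ} (hl : 1 ≤ l) (c : Fˣ) (hrdef : r = orderOf c)
    (f : Fin (l * k) → F[X]) (hf : f ∈ SuppInvSet (l * k) l (c : F)) :
    k = r * ∑ i : Fin k, (i.val + 1) * (contract r (f (epsL l k hl i))).natDegree := by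
  have h1 := hf.1.2
  rw [sum_scale l k hl (fun j => (j.val + 1) * (f j).natDegree) ?_ (epsL l k hl)
    (epsL_val l k hl)] at h1
  · have h2 : ∑ i : Fin k, ((epsL l k hl i).val + 1) * (f (epsL l k hl i)).natDegree =
        l * (r * ∑ i : Fin k, (i.val + 1) * (contract r (f (epsL l k hl i))).natDegree) := by
      rw [Finset.mul_sum, Finset.mul_sum]
      apply Finset.sum_congr rfl
      intro i _
      rw [epsL_val]
      have h2 : 1 ≤ l * (i.val + 1) := Nat.mul_pos hl (Nat.succ_pos _)
      rw [Nat.sub_add_cancel h2, ← (suppInv_facts c hrdef f hf (epsL l k hl i)).2.2.1]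
      ring
    rw [h2] at h1
    exact (Nat.eq_of_mul_eq_mul_left hl h1).symm
  · intro j hj
    have : f j = 1 := by
      by_contra hne
      exact hj (hf.2.2 j hne)
    show (j.val + 1) * (f j).natDegree = 0
    rw [natDegree_eq_zero_of_eq_one this, mul_zero]

theorem card_suppInv_case (l r k' : ℕ) (hl : 1 ≤ l) (c : Fˣ) (hrdef : r = orderOf c) :
    Nat.card (SuppInvSet (F := F) (l * (r * k')) l (c : F)) ≤ TN (Fintype.card F) k' k' := by
  classical
  have hr : 1 ≤ r := by rw [hrdef]; exact orderOf_pos c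
  rw [← TN_stable (Fintype.card F) k' (r * k') (Nat.le_mul_of_pos_left k' hr),
    ← card_Par (F := F) (r * k') k']
  haveI : Finite (Par F (r * k') k') := (finite_Par (F := F) (r * k') k').to_subtype
  have hmem : ∀ f : SuppInvSet (F := F) (l * (r * k')) l (c : F),
      (fun i => contract r (f.1 (epsL l (r * k') hl i))) ∈ Par F (r * k') k' := by
    intro f
    refine ⟨fun i => ⟨(suppInv_facts c hrdef f.1 f.2 _).1, (suppInv_facts c hrdef f.1 f.2 _).2.1⟩, ?_⟩
    have := suppInv_key hl c hrdef f.1 f.2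
    exact (Nat.eq_of_mul_eq_mul_left hr this).symm
  let Θ : SuppInvSet (F := F) (l * (r * k')) l (c : F) → Par F (r * k') k' :=
    fun f => ⟨fun i => contract r (f.1 (epsL l (r * k') hl i)), hmem f⟩
  have hΘ : Function.Injective Θ := by
    intro f f' hff
    apply Subtype.ext
    funext j
    have hff' : ∀ i, contract r (f.1 (epsL l (r * k') hl i)) =
        contract r (f'.1 (epsL l (r * k') hl i)) :=
      fun i => congrFun (congrArg Subtype.val hff) i
    by_cases hj : l ∣ j.val + 1
    · obtain ⟨i, rfl⟩ := exists_epsL_eq l (r * k') hl j hj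
      exact eq_of_contract_eq r hr (suppInv_facts c hrdef f.1 f.2 _).2.2.2
        (suppInv_facts c hrdef f'.1 f'.2 _).2.2.2 (hff' i)
    · have h1 : f.1 j = 1 := by
        by_contra hne
        exact hj (f.2.2.2 j hne)
      have h2 : f'.1 j = 1 := by
        by_contra hne
        exact hj (f'.2.2.2 j hne)
      rw [h1, h2]
  exact Nat.card_le_card_of_injective Θ hΘ

theorem card_supp_inv_le (n l : ℕ) (hl : 1 ≤ l) (c : Fˣ) :
    Nat.card {f : Fin n → F[X] // f ∈ Par F n n ∧ InvZ (c : F) f ∧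
        ∀ j : Fin n, f j ≠ 1 → l ∣ j.val + 1} ≤
      PL (Fintype.card F) n (orderOf c * l) := by
  classical
  show Nat.card (SuppInvSet (F := F) n l (c : F)) ≤ _
  obtain ⟨r, hrdef⟩ : ∃ r, r = orderOf c := ⟨_, rfl⟩
  rw [← hrdef]
  have hr : 1 ≤ r := by rw [hrdef]; exact orderOf_pos c
  by_cases hln : l ∣ n
  · obtain ⟨k, rfl⟩ := hln
    by_cases hrk : r ∣ k
    · obtain ⟨k', rfl⟩ := hrk
      have hPL : PL (Fintype.card F) (l * (r * k')) (r * l) = TN (Fintype.card F) k' k' := by
        unfold PL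
        have hdvd : r * l ∣ l * (r * k') := ⟨k', by ring⟩
        have hdiv : l * (r * k') / (r * l) = k' := by
          have : l * (r * k') = r * l * k' := by ring
          rw [this]
          exact Nat.mul_div_cancel_left k' (Nat.mul_pos hr hl)
        rw [if_pos hdvd, hdiv]
      rw [hPL]
      exact card_suppInv_case l r k' hl c hrdef
    · haveI : IsEmpty (SuppInvSet (F := F) (l * k) l (c : F)) := by
        constructor
        intro f
        exact hrk ⟨_, suppInv_key hl c hrdef f.1 f.2⟩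
      rw [Nat.card_of_isEmpty]
      exact Nat.zero_le _
  · haveI : IsEmpty (SuppInvSet (F := F) n l (c : F)) := by
      constructor
      rintro ⟨f, hf, -, hsupp⟩
      apply hln
      rw [← hf.2]
      apply Finset.dvd_sum
      intro j _
      by_cases h : f j = 1
      · rw [natDegree_eq_zero_of_eq_one h, mul_zero]
        exact dvd_zero _
      · exact Dvd.dvd.mul_right (hsupp j h) _
    rw [Nat.card_of_isEmpty]
    exact Nat.zero_le _

end main

end Cfsg.Agent.Lib.Helper5.SLClass
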