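import Mathlib
import Cfsg.Agent.Lib.Helper5.SLClass.SumSq
import Cfsg.Agent.Lib.Helper5.SLClass.SuppInv

set_option autoImplicit false

/-!
The double count of `∑ gcd (gg f) (q - 1) ^ 2` over the invariant parameters.
-/

namespace Cfsg.Agent.Lib.Helper5.SLClass

open Polynomial Cfsg.Agent.Lib.Helper5.GLClass

section
variable {F : Type*} [Field F] [Fintype F] [DecidableEq F]

open scoped Classical in
theorem sum_sq_inv_le (n : ℕ) (c : Fˣ) :
    ∑ f ∈ (parFinset F n).filter (fun f => InvZ (c : F) f),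
        Nat.gcd (gg f) (Fintype.card F - 1) ^ 2 ≤
      ∑ yz : Fˣ × Fˣ,
        PL (Fintype.card F) n (orderOf c * Nat.lcm (orderOf yz.1) (orderOf yz.2)) := by
  classical
  have h1 : ∀ f : Fin n → F[X], Nat.gcd (gg f) (Fintype.card F - 1) ^ 2 =
      ∑ yz : Fˣ × Fˣ, if yz.1 ^ gg f = 1 ∧ yz.2 ^ gg f = 1 then 1 else 0 := by
    intro f
    rw [gcd_eq_card_filter, pow_two, ← Finset.card_product, Finset.card_eq_sum_ones,
      ← Finset.sum_filter]
    apply Finset.sum_congr _ (fun _ _ => rfl)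
    ext yz
    simp only [Finset.mem_product, Finset.mem_filter, Finset.mem_univ, true_and]
  rw [Finset.sum_congr rfl (fun f _ => h1 f), Finset.sum_comm]
  apply Finset.sum_le_sum
  intro yz _
  rw [← Finset.sum_filter, ← Finset.card_eq_sum_ones]
  set l := Nat.lcm (orderOf yz.1) (orderOf yz.2) with hl
  have hl1 : 1 ≤ l := Nat.lcm_pos (orderOf_pos _) (orderOf_pos _)
  refine le_trans ?_ (card_supp_inv_le (F := F) n l hl1 c)
  haveI : Finite {f : Fin n → F[X] // f ∈ Par F n n ∧ InvZ (c : F) f ∧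
      ∀ j : Fin n, f j ≠ 1 → l ∣ j.val + 1} := by
    haveI : Finite (Par F n n) := (finite_Par (F := F) n n).to_subtype
    exact Finite.of_injective
      (fun f : {f : Fin n → F[X] // f ∈ Par F n n ∧ InvZ (c : F) f ∧
          ∀ j : Fin n, f j ≠ 1 → l ∣ j.val + 1} => (⟨f.1, f.2.1⟩ : Par F n n))
      (fun f f' h => by
        have h2 := congrArg Subtype.val h
        exact Subtype.ext h2)
  rw [← Nat.card_eq_finsetCard]
  apply Nat.card_le_card_of_injective
    (fun f : {f // f ∈ ((parFinset F n).filter (fun f => InvZ (c : F) f)).filter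
        (fun f => yz.1 ^ gg f = 1 ∧ yz.2 ^ gg f = 1)} =>
      (⟨f.1, by
        have h2 := f.2
        rw [Finset.mem_filter, Finset.mem_filter, mem_parFinset] at h2
        refine ⟨h2.1.1, h2.1.2, fun j hj => ?_⟩
        exact Nat.lcm_dvd (supp_dvd_of_pow_eq_one f.1 yz.1 h2.2.1 j hj)
          (supp_dvd_of_pow_eq_one f.1 yz.2 h2.2.2 j hj)⟩ :
        {f : Fin n → F[X] // f ∈ Par F n n ∧ InvZ (c : F) f ∧
          ∀ j : Fin n, f j ≠ 1 → l ∣ j.val + 1}))
  intro f f' h
  have h2 := congrArg Subtype.val h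
  exact Subtype.ext h2

end

end Cfsg.Agent.Lib.Helper5.SLClass
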