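import Mathlib
import Cfsg.Agent.Lib.Helper5.SLClass.FixSum
import Cfsg.Agent.Lib.Helper5.SLClass.SumSqInv
import Cfsg.Agent.Lib.Helper2.SLClass_PC4a
import Cfsg.Agent.Lib.Helper2.SLClass_C6
import Cfsg.Agent.Lib.Helper8.SLClass_PB
import Cfsg.Agent.Lib.Helper1.SLClass_PZ
import Cfsg.Agent.Lib.Helper1.SLClass_PN

set_option autoImplicit false

/-!
The bounds for the number of conjugacy classes of `PSL_n(q)`.
-/

namespace Cfsg.Agent.Lib.Helper5.SLClass
open Polynomial Cfsg.Agent.Lib.Helper5.GLClass

theorem psl_conjClasses_bounds {F : Type*} [Field F] [Fintype F] (n : ℕ) (hn : 2 ≤ n) :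
    Fintype.card F ^ (n - 1) ≤ Nat.gcd n (Fintype.card F - 1) * Nat.card (ConjClasses (Matrix.ProjectiveSpecialLinearGroup (Fin n) F)) ∧
      Nat.gcd n (Fintype.card F - 1) * Nat.card (ConjClasses (Matrix.ProjectiveSpecialLinearGroup (Fin n) F)) ≤ Fintype.card F ^ (n - 1) + 5 * Fintype.card F ^ (n - 2) := by
  classical
  have hq : 2 ≤ Fintype.card F := Fintype.one_lt_card
  have hq1 : 0 < Fintype.card F - 1 := by omega
  set Z := Subgroup.center (Matrix.SpecialLinearGroup (Fin n) F) with hZdef
  haveI : Fintype Z := Fintype.ofFinite Z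
  have hB := card_mul_card_conjClasses_quot Z (le_refl _)
  rw [sl_center_card n (by omega)] at hB
  have hPSL : Nat.card (ConjClasses (Matrix.ProjectiveSpecialLinearGroup (Fin n) F)) =
      Nat.card (ConjClasses (Matrix.SpecialLinearGroup (Fin n) F ⧸ Z)) := rfl
  rw [hPSL, hB]
  constructor
  · -- the term `z = 1`
    have h1 : Nat.card {C : ConjClasses (Matrix.SpecialLinearGroup (Fin n) F) //
        ∃ x, ConjClasses.mk x = C ∧ IsConj x (((1 : Z) : Matrix.SpecialLinearGroup (Fin n) F) * x)} =
        Nat.card (ConjClasses (Matrix.SpecialLinearGroup (Fin n) F)) := by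
      apply Nat.card_congr
      refine Equiv.subtypeUnivEquiv ?_
      intro C
      obtain ⟨x, rfl⟩ := ConjClasses.mk_surjective C
      refine ⟨x, rfl, ?_⟩
      rw [Subgroup.coe_one, one_mul]
    have h2 := Finset.single_le_sum (f := fun z : Z => Nat.card {C : ConjClasses (Matrix.SpecialLinearGroup (Fin n) F) //
        ∃ x, ConjClasses.mk x = C ∧ IsConj x ((z : Matrix.SpecialLinearGroup (Fin n) F) * x)})
        (fun _ _ => Nat.zero_le _) (Finset.mem_univ (1 : Z))
    rw [h1] at h2
    exact le_trans (lt_card_conjClasses_sl n hn).le h2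
  · -- scalars
    have hsc : ∀ z : Z, ∃ c : Fˣ, c ^ n = 1 ∧
        (z : Matrix.SpecialLinearGroup (Fin n) F).val = (c : F) • (1 : Matrix (Fin n) (Fin n) F) :=
      fun z => sl_center_scalar n z.1 z.2 (by omega)
    choose cz hcz1 hcz2 using hsc
    have hinj : Function.Injective cz := by
      intro z z' h
      apply Subtype.ext
      apply Subtype.ext
      rw [hcz2 z, hcz2 z', h]
    -- each fixed point count
    have hfix : ∀ z : Z, (Fintype.card F - 1) *
        Nat.card {C : ConjClasses (Matrix.SpecialLinearGroup (Fin n) F) //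
          ∃ x, ConjClasses.mk x = C ∧ IsConj x ((z : Matrix.SpecialLinearGroup (Fin n) F) * x)} ≤
        ∑ yz : Fˣ × Fˣ, PL (Fintype.card F) n
          (orderOf (cz z) * Nat.lcm (orderOf yz.1) (orderOf yz.2)) := by
      intro z
      calc _ ≤ (Fintype.card F - 1) * ∑ f ∈ (parFinset F n).filter
              (fun f => InvZ ((cz z : Fˣ) : F) f ∧ dt f = 1), Nat.gcd (gg f) (Fintype.card F - 1) :=
            Nat.mul_le_mul_left _ (by convert fix_le_sum n z.1 (cz z) (hcz2 z))
        _ ≤ ∑ f ∈ (parFinset F n).filter (fun f => InvZ ((cz z : Fˣ) : F) f),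
              Nat.gcd (gg f) (Fintype.card F - 1) ^ 2 := by
            convert card_mul_sum_inv_le (F := F) n (cz z)
        _ ≤ _ := by convert sum_sq_inv_le (F := F) n (cz z)
    have hsum : (Fintype.card F - 1) * ∑ z : Z,
        Nat.card {C : ConjClasses (Matrix.SpecialLinearGroup (Fin n) F) //
          ∃ x, ConjClasses.mk x = C ∧ IsConj x ((z : Matrix.SpecialLinearGroup (Fin n) F) * x)} ≤
        (Fintype.card F - 1) * (Fintype.card F ^ (n - 1) + 5 * Fintype.card F ^ (n - 2)) := by
      rw [Finset.mul_sum]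
      refine le_trans (Finset.sum_le_sum (fun z _ => hfix z)) ?_
      refine le_trans ?_ (triples_sum_le (F := F) n hn)
      rw [← Finset.sum_image (s := Finset.univ) (g := cz)
        (f := fun c => ∑ yz : Fˣ × Fˣ, PL (Fintype.card F) n
          (orderOf c * Nat.lcm (orderOf yz.1) (orderOf yz.2))) (fun a _ b _ h => hinj h)]
      apply Finset.sum_le_sum_of_subset
      intro c hc
      rw [Finset.mem_image] at hc
      obtain ⟨z, _, rfl⟩ := hc
      rw [Finset.mem_filter]
      exact ⟨Finset.mem_univ _, hcz1 z⟩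
    exact Nat.le_of_mul_le_mul_left hsum hq1

end Cfsg.Agent.Lib.Helper5.SLClass
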